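import Mathlib
import Cfsg.Agent.Lib.H8.SuzGroup
import Cfsg.Agent.Lib.H8.SuzOvoid
import Cfsg.Agent.Lib.H24.SzIso
import Cfsg.Prelude.Def_Sz

/-! Groups with a non-identity element whose centralizer is a `p`-group: `S₄`, `PSL₂(q)`,
`PGL₂(q)`, `Sz(q)`. -/

set_option autoImplicit false

namespace H15.PCent

open Subgroup

/-- some non-identity element has a centralizer which is a `p`-group -/
def PC (Q : Type*) [Group Q] : Prop :=
  ∃ p : ℕ, p.Prime ∧ ∃ g : Q, g ≠ 1 ∧ ∀ c : Q, c * g = g * c → ∃ k : ℕ, c ^ p ^ k = 1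

theorem PC.of_equiv {Q R : Type*} [Group Q] [Group R] (e : Q ≃* R) (h : PC R) : PC Q := by
  obtain ⟨p, hp, g, hg, h⟩ := h
  refine ⟨p, hp, e.symm g, fun h1 => hg ?_, fun c hc => ?_⟩
  · rw [← e.apply_symm_apply g, h1, map_one]
  · obtain ⟨k, hk⟩ := h (e c) (by
      have := congrArg e hc
      rwa [map_mul, map_mul, e.apply_symm_apply] at this)
    refine ⟨k, ?_⟩
    rw [← map_pow] at hk
    exact e.injective (hk.trans (map_one e).symm)

theorem pc_s4 : PC (Equiv.Perm (Fin 4)) := by
  refine ⟨3, by norm_num, c[0, 1, 2], by decide, fun c hc => ⟨1, ?_⟩⟩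
  rw [pow_one]
  revert c
  decide

section gl
variable {F : Type*} [Field F]

/-- the transvection -/
def tv (F : Type*) [Field F] : Matrix.SpecialLinearGroup (Fin 2) F := ⟨!![1, 1; 0, 1], by simp⟩

theorem upow (c : F) (n : ℕ) : (!![1, c; 0, 1] : Matrix (Fin 2) (Fin 2) F) ^ n = !![1, (n : F) * c; 0, 1] := by
  induction n with
  | zero => ext i j; fin_cases i <;> fin_cases j <;> simp
  | succ n ih =>
    rw [pow_succ, ih]
    ext i j
    fin_cases i <;> fin_cases j <;> simp [Matrix.mul_apply, Fin.sum_univ_two] <;> ring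

theorem glKey {p : ℕ} [CharP F p] (g : GL (Fin 2) F)
    (h : g * (tv F : GL (Fin 2) F) * g⁻¹ * (tv F : GL (Fin 2) F)⁻¹ ∈ center (GL (Fin 2) F)) :
    g ^ p ∈ center (GL (Fin 2) F) := by
  rw [Matrix.GeneralLinearGroup.mem_center_iff_val_mem_range_scalar] at h ⊢
  obtain ⟨l, hl⟩ := h
  have h1 : (g.val * !![1, 1; 0, 1] : Matrix (Fin 2) (Fin 2) F) = l • (!![1, 1; 0, 1] * g.val) := by
    have h2 : g * (tv F : GL (Fin 2) F) = (g * (tv F : GL (Fin 2) F) * g⁻¹ * (tv F : GL (Fin 2) F)⁻¹) *
      ((tv F : GL (Fin 2) F) * g) := by group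
    have h3 := congrArg Units.val h2
    rw [Units.val_mul, Units.val_mul (g * (tv F : GL (Fin 2) F) * g⁻¹ * (tv F : GL (Fin 2) F)⁻¹), ← hl,
      Units.val_mul] at h3
    rw [Matrix.scalar_apply, ← Matrix.smul_eq_diagonal_mul] at h3
    exact h3
  have e00 := congrFun (congrFun h1 0) 0
  have e01 := congrFun (congrFun h1 0) 1
  have e10 := congrFun (congrFun h1 1) 0
  have e11 := congrFun (congrFun h1 1) 1
  simp only [Matrix.mul_apply, Fin.sum_univ_two, Matrix.smul_apply, Matrix.of_apply,
    Matrix.cons_val', Matrix.cons_val_zero, Matrix.cons_val_one, Matrix.cons_val_fin_one,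
    mul_one, mul_zero, add_zero, one_mul, zero_mul, zero_add, smul_eq_mul] at e00 e01 e10 e11
  have hc : g.val 1 0 = 0 := by
    by_contra hc
    have hl1 : l = 1 := by
      have : (l - 1) * g.val 1 0 = 0 := by linear_combination -e10
      rcases mul_eq_zero.1 this with h | h
      · linear_combination h
      · exact absurd h hc
    rw [hl1, one_mul] at e00
    apply hc
    linear_combination -e00
  have hdet : g.val.det ≠ 0 := by
    have := (Matrix.GeneralLinearGroup.det g).ne_zero
    simpa using this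
  have ha : g.val 0 0 ≠ 0 := by
    intro ha
    apply hdet
    rw [Matrix.det_fin_two, ha, hc]; ring
  have hl1 : l = 1 := by
    have : (l - 1) * g.val 0 0 = 0 := by linear_combination -e00 - l * hc
    rcases mul_eq_zero.1 this with h | h
    · linear_combination h
    · exact absurd h ha
  have hd : g.val 1 1 = g.val 0 0 := by
    rw [hl1] at e01
    linear_combination -e01
  have hg : g.val = g.val 0 0 • !![1, g.val 0 1 / g.val 0 0; 0, 1] := by
    ext i j
    fin_cases i <;> fin_cases j
    · simp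
    · simp; field_simp
    · simp [hc]
    · simp [hd]
  refine ⟨g.val 0 0 ^ p, ?_⟩
  rw [Units.val_pow_eq_pow_val, hg, smul_pow, upow, CharP.cast_eq_zero, zero_mul, Matrix.scalar_apply]
  ext i j
  fin_cases i <;> fin_cases j <;> simp

theorem tv_not_center : (tv F) ∉ center (Matrix.SpecialLinearGroup (Fin 2) F) := by
  intro h
  rw [Matrix.SpecialLinearGroup.mem_center_iff] at h
  obtain ⟨r, -, hr⟩ := h
  have := congrFun (congrFun hr 0) 1
  simp [tv] at this

theorem pc_pgl [Finite F] : PC (GL (Fin 2) F ⧸ center (GL (Fin 2) F)) := by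
  obtain ⟨p, hp⟩ := CharP.exists F
  have : Fact p.Prime := ⟨CharP.char_is_prime F p⟩
  refine ⟨p, Fact.out, QuotientGroup.mk (tv F : GL (Fin 2) F), ?_, ?_⟩
  · rw [Ne, QuotientGroup.eq_one_iff, Matrix.SpecialLinearGroup.toGL_mem_center_iff]
    exact tv_not_center
  · intro c hc
    induction c using QuotientGroup.induction_on with
    | H g =>
    refine ⟨1, ?_⟩
    rw [pow_one, ← QuotientGroup.mk_pow, QuotientGroup.eq_one_iff]
    apply glKey
    rw [← QuotientGroup.eq_one_iff]
    simp only [QuotientGroup.mk_mul, QuotientGroup.mk_inv]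
    rw [hc]; group

theorem pc_psl [Finite F] : PC (Matrix.ProjectiveSpecialLinearGroup (Fin 2) F) := by
  obtain ⟨p, hp⟩ := CharP.exists F
  have : Fact p.Prime := ⟨CharP.char_is_prime F p⟩
  refine ⟨p, Fact.out, (QuotientGroup.mk (tv F) : Matrix.SpecialLinearGroup (Fin 2) F ⧸ center _), ?_, ?_⟩
  · intro h
    exact tv_not_center ((QuotientGroup.eq_one_iff _).1 h)
  · intro c hc
    change (c : Matrix.SpecialLinearGroup (Fin 2) F ⧸ center _) * _ = _ * _ at hc
    induction c using QuotientGroup.induction_on with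
    | H g =>
    refine ⟨1, ?_⟩
    rw [pow_one]
    change (QuotientGroup.mk g : Matrix.SpecialLinearGroup (Fin 2) F ⧸ center _) ^ p = 1
    rw [← QuotientGroup.mk_pow, QuotientGroup.eq_one_iff, ← Matrix.SpecialLinearGroup.toGL_mem_center_iff, map_pow]
    apply glKey
    rw [← map_mul, ← map_inv, ← map_mul, ← map_inv, ← map_mul, Matrix.SpecialLinearGroup.toGL_mem_center_iff]
    rw [← QuotientGroup.eq_one_iff]
    simp only [QuotientGroup.mk_mul, QuotientGroup.mk_inv]
    rw [hc]; group

end gl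

/-- actions in which non-identity elements fix at most two points, of degree `p ^ n + 1` -/
theorem pc_act {G Ω : Type*} [Group G] [Finite G] [MulAction G Ω] [Finite Ω] {p n : ℕ} (hp : p.Prime)
    (hn : n ≠ 0) (hΩ : Nat.card Ω = p ^ n + 1) (hpG : p ∣ Nat.card G)
    (h3 : ∀ g : G, ∀ a b c : Ω, a ≠ b → b ≠ c → a ≠ c → g • a = a → g • b = b → g • c = c → g = 1) :
    PC G := by
  classical
  have : Fact p.Prime := ⟨hp⟩
  obtain ⟨z, hz⟩ := exists_prime_orderOf_dvd_card' p hpG
  have hz1 : z ≠ 1 := by rintro rfl; rw [orderOf_one] at hz; exact hp.one_lt.ne hz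
  refine ⟨p, hp, z, hz1, ?_⟩
  -- fixed points
  have hzp : IsPGroup p (zpowers z) := IsPGroup.of_card (n := 1) (by rw [Nat.card_zpowers, hz, pow_one])
  have hfix : ∀ x : Ω, x ∈ MulAction.fixedPoints (zpowers z) Ω ↔ z • x = x := by
    intro x
    rw [MulAction.mem_fixedPoints]
    constructor
    · intro h; exact h ⟨z, mem_zpowers z⟩
    · rintro h ⟨_, k, rfl⟩
      change z ^ k • x = x
      have h1 : z ∈ MulAction.stabilizer G x := h
      exact zpow_mem h1 k
  have hmod := hzp.card_modEq_card_fixedPoints Ω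
  rw [hΩ] at hmod
  have hmod2 : Nat.card (MulAction.fixedPoints (zpowers z) Ω) % p = 1 := by
    have h1 : (p ^ n + 1) % p = 1 := by
      rw [Nat.add_mod, Nat.pow_mod, Nat.mod_self, Nat.zero_pow (Nat.pos_of_ne_zero hn)]
      rw [Nat.zero_mod, zero_add, Nat.mod_mod, Nat.mod_eq_of_lt hp.one_lt]
    rw [← h1]; exact hmod.symm
  obtain ⟨a, ha⟩ : ∃ a : Ω, z • a = a := by
    by_contra hcon
    push Not at hcon
    have : IsEmpty (MulAction.fixedPoints (zpowers z) Ω) := ⟨fun x => hcon x ((hfix x).1 x.2)⟩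
    rw [Nat.card_of_isEmpty, Nat.zero_mod] at hmod2
    exact zero_ne_one hmod2
  have huniq : ∀ b : Ω, z • b = b → b = a := by
    intro b hb
    by_contra hba
    have h2 : MulAction.fixedPoints (zpowers z) Ω = {a, b} := by
      ext x
      rw [hfix, Set.mem_insert_iff, Set.mem_singleton_iff]
      constructor
      · intro hx
        by_contra hcon
        push Not at hcon
        exact hz1 (h3 z a b x (Ne.symm hba) (Ne.symm hcon.2) (Ne.symm hcon.1) ha hb hx)
      · rintro (rfl | rfl)
        · exact ha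
        · exact hb
    rw [h2, Nat.card_coe_set_eq, Set.ncard_pair (Ne.symm hba)] at hmod2
    rcases (hp.two_le).eq_or_lt with h | h
    · rw [← h] at hmod2; omega
    · rw [Nat.mod_eq_of_lt h] at hmod2; omega
  intro c hc
  have hca : c • a = a := by
    apply huniq
    rw [← mul_smul, ← hc, mul_smul, ha]
  -- a power of `c` of order prime to `p` is trivial
  have hone : ∀ d : G, d * z = z * d → d • a = a → ∀ b : Ω, b ≠ a → d • b = b → d = 1 := by
    intro d hd hda b hb hdb
    refine h3 d a b (z • b) (Ne.symm hb) ?_ ?_ hda hdb ?_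
    · intro h; exact hb (huniq b h.symm)
    · intro h
      apply hb
      rw [← ha] at h
      exact ((MulAction.injective z) h).symm
    · rw [← mul_smul, hd, mul_smul, hdb]
  by_contra hcon
  push Not at hcon
  -- the order of `c` has a prime divisor other than `p`
  obtain ⟨r, hr, hrc, hrp⟩ : ∃ r : ℕ, r.Prime ∧ r ∣ orderOf c ∧ r ≠ p := by
    by_contra hno
    push Not at hno
    have h1 : orderOf c = p ^ (orderOf c).primeFactorsList.length :=
      Nat.eq_prime_pow_of_unique_prime_dvd (orderOf_pos c).ne' (fun {d} hd hdc => hno d hd hdc)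
    apply hcon _
    rw [← h1]
    exact pow_orderOf_eq_one c
  have : Fact r.Prime := ⟨hr⟩
  set d := c ^ (orderOf c / r) with hd
  have hdo : orderOf d = r := by
    rw [hd, orderOf_pow_of_dvd (Nat.div_pos (Nat.le_of_dvd (orderOf_pos c) hrc) hr.pos).ne' (Nat.div_dvd_of_dvd hrc),
      Nat.div_div_self hrc (orderOf_pos c).ne']
  have hdz : d * z = z * d := ((show Commute c z from hc).pow_left _).eq
  have hda : d • a = a := by
    have h1 : c ∈ MulAction.stabilizer G a := hca
    exact pow_mem h1 _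
  have hdp : IsPGroup r (zpowers d) := IsPGroup.of_card (n := 1) (by rw [Nat.card_zpowers, hdo, pow_one])
  have hfixd : MulAction.fixedPoints (zpowers d) Ω = {a} := by
    ext x
    rw [MulAction.mem_fixedPoints, Set.mem_singleton_iff]
    constructor
    · intro h
      by_contra hx
      have h1 := hone d hdz hda x hx (h ⟨d, mem_zpowers d⟩)
      rw [h1, orderOf_one] at hdo
      exact hr.one_lt.ne hdo
    · rintro rfl ⟨_, k, rfl⟩
      change d ^ k • x = x
      have h1 : d ∈ MulAction.stabilizer G x := hda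
      exact zpow_mem h1 k
  have hmod3 := hdp.card_modEq_card_fixedPoints Ω
  rw [hfixd, hΩ] at hmod3
  simp only [Nat.card_eq_fintype_card, Fintype.card_unique] at hmod3
  have h5 : p ^ n ≡ 0 [MOD r] := by
    apply Nat.ModEq.add_right_cancel' 1
    rw [zero_add]; exact hmod3
  have h6 := (Nat.modEq_zero_iff_dvd.1 h5)
  exact hrp ((Nat.prime_dvd_prime_iff_eq hr hp).1 (hr.dvd_of_dvd_pow h6))

theorem pc_sz {G : Type*} [Group G] (h : Cfsg.Lie.IsoSuzuki G) : PC G := by
  obtain ⟨F, _, _, m, hm, hF, ⟨e⟩⟩ := h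
  classical
  have hfin : Finite (Matrix.SpecialLinearGroup (Fin 4) F) := Subtype.finite
  apply PC.of_equiv (e.trans (H24.SzIso.equiv hF hm).symm)
  have hZ := H8.SuzGroup.zassenhaus hm hF
  have hc := H8.SuzOvoid.card_ovoid (F := F) m
  rw [hF] at hc
  refine pc_act (Ω := Cfsg.suzukiOvoid F m) (p := 2) (n := (2 * m + 1) * 2) Nat.prime_two (by omega)
    (by rw [hc, pow_mul]) ?_ hZ.2.2.1
  rw [H8.SuzGroup.card_Sz hm hF]
  have h2 : 2 ∣ (2 ^ (2 * m + 1)) ^ 2 := by
    rw [← pow_mul]; exact dvd_pow_self 2 (by omega)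
  exact (h2.mul_right _).mul_right _

end H15.PCent
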