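import Mathlib
import Cfsg.Agent.Lib.H15.PCent
import Cfsg.Agent.Lib.H73.Prt18
import Cfsg.Agent.Lib.H18.OddOrder
import Cfsg.Agent.Lib.H69.FrobData

/-!
# F-groups with two centralizer orders

If the centralizers of non-central elements are pairwise incomparable and have only two orders,
then the group is solvable, given the case of one prime.
-/

set_option autoImplicit false

namespace H15.ItoA

open Subgroup H15.PCent

variable {G : Type*} [Group G] [Finite G]

theorem mem_cent {x y : G} : y ∈ centralizer ({x} : Set G) ↔ y * x = x * y :=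
  mem_centralizer_singleton_iff

/-- an element outside a subgroup has a primary power outside of it -/
theorem prim {K : Subgroup G} {x : G} (hx : x ∉ K) :
    ∃ p : ℕ, p.Prime ∧ ∃ k j : ℕ, x ^ k ∉ K ∧ orderOf (x ^ k) = p ^ j := by
  classical
  have hex : ∃ m : ℕ, ∃ k : ℕ, x ^ k ∉ K ∧ orderOf (x ^ k) = m := ⟨_, 1, by rwa [pow_one], rfl⟩
  obtain ⟨k, hk, hm⟩ := Nat.find_spec hex
  have hmin : ∀ n < Nat.find hex, ∀ l, orderOf (x ^ l) = n → x ^ l ∈ K := by
    intro n hn l hl
    by_contra h
    exact Nat.find_min hex hn ⟨l, h, hl⟩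
  set m := Nat.find hex
  have hm1 : m ≠ 1 := by
    intro h
    rw [h, orderOf_eq_one_iff] at hm
    rw [hm] at hk
    exact hk (one_mem _)
  have hm0 : m ≠ 0 := by rw [← hm]; exact (orderOf_pos _).ne'
  obtain ⟨p, hp, hpm⟩ := Nat.exists_prime_and_dvd hm1
  refine ⟨p, hp, k, m.factorization p, hk, ?_⟩
  rw [hm]
  set a := p ^ m.factorization p with ha
  set b := m / a with hb
  have hab : a * b = m := Nat.ordProj_mul_ordCompl_eq_self m p
  have hcop : a.Coprime b := (Nat.coprime_ordCompl hp hm0).pow_left _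
  by_contra hne
  have hb1 : b ≠ 1 := by
    intro h; rw [h, mul_one] at hab; exact hne hab.symm
  have ha1 : a ≠ 1 := by
    intro h
    have h1 : ¬ p ∣ b := fun h2 => by
      have h3 := Nat.Coprime.eq_one_of_dvd (Nat.coprime_ordCompl hp hm0) h2
      exact hp.one_lt.ne' h3
    apply h1
    rw [h, one_mul] at hab
    rwa [hab]
  have ha0 : a ≠ 0 := by rintro h; rw [h, zero_mul] at hab; exact hm0 hab.symm
  have hb0 : b ≠ 0 := by rintro h; rw [h, mul_zero] at hab; exact hm0 hab.symm
  have hbm : b < m := by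
    rw [← hab]
    have : 1 < a := Nat.one_lt_iff_ne_zero_and_ne_one.2 ⟨ha0, ha1⟩
    nlinarith [Nat.pos_of_ne_zero hb0]
  have ham : a < m := by
    rw [← hab]
    have : 1 < b := Nat.one_lt_iff_ne_zero_and_ne_one.2 ⟨hb0, hb1⟩
    nlinarith [Nat.pos_of_ne_zero ha0]
  have h1 : (x ^ k) ^ a ∈ K := by
    rw [← pow_mul]
    apply hmin b hbm (k * a)
    rw [pow_mul, orderOf_pow_of_dvd ha0 (by rw [hm]; exact ⟨b, hab.symm⟩), hm]
  have h2 : (x ^ k) ^ b ∈ K := by
    rw [← pow_mul]
    apply hmin a ham (k * b)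
    rw [pow_mul, orderOf_pow_of_dvd hb0 (by rw [hm]; exact ⟨a, by rw [mul_comm]; exact hab.symm⟩), hm,
      ← hab, Nat.mul_div_cancel _ (Nat.pos_of_ne_zero hb0)]
  obtain ⟨u, v, huv⟩ := Nat.isCoprime_iff_coprime.2 hcop
  apply hk
  have h3 : x ^ k = ((x ^ k) ^ a) ^ u * ((x ^ k) ^ b) ^ v := by
    rw [← zpow_natCast (x ^ k) a, ← zpow_natCast (x ^ k) b, ← zpow_mul, ← zpow_mul, ← zpow_add,
      mul_comm (a : ℤ) u, mul_comm (b : ℤ) v, huv, zpow_one]
  rw [h3]
  exact mul_mem (zpow_mem h1 u) (zpow_mem h2 v)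

/-- a power with exponent prime to the order generates -/
theorem mem_zpowers_pow {x : G} {n : ℕ} (h : (orderOf x).Coprime n) : x ∈ zpowers (x ^ n) := by
  obtain ⟨u, v, huv⟩ := Nat.isCoprime_iff_coprime.2 h
  rw [mem_zpowers_iff]
  refine ⟨v, ?_⟩
  rw [← zpow_natCast, ← zpow_mul]
  have h1 : (n : ℤ) * v = 1 - u * orderOf x := by rw [← huv]; ring
  rw [h1, zpow_sub, zpow_mul', zpow_natCast, pow_orderOf_eq_one]
  simp

theorem cent_pow_le (x : G) (k : ℕ) : centralizer ({x} : Set G) ≤ centralizer ({x ^ k} : Set G) := by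
  intro c hc
  rw [mem_cent] at hc ⊢
  exact ((show Commute c x from hc).pow_right k).eq

theorem cent_le_of_mem {x y : G} (h : y ∈ zpowers x) :
    centralizer ({x} : Set G) ≤ centralizer ({y} : Set G) := by
  obtain ⟨k, rfl⟩ := mem_zpowers_iff.1 h
  intro c hc
  rw [mem_cent] at hc ⊢
  exact ((show Commute c x from hc).zpow_right k).eq

section F
variable (hF : ∀ x y : G, x ∉ center G → y ∉ center G →
  centralizer ({x} : Set G) ≤ centralizer ({y} : Set G) →
  centralizer ({x} : Set G) = centralizer ({y} : Set G))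
include hF

theorem claim1 {p : ℕ} {x y : G} (hx : x ∉ center G) (hxp : ∃ j : ℕ, orderOf x = p ^ j)
    (hy : y ∈ centralizer ({x} : Set G)) (hyp : (orderOf y).Coprime p) :
    centralizer ({x} : Set G) ≤ centralizer ({y} : Set G) := by
  obtain ⟨j, hj⟩ := hxp
  have hc : Commute x y := (mem_cent.1 hy).symm
  have h1 : x ∈ zpowers (x ^ orderOf y) := mem_zpowers_pow (by rw [hj]; exact (hyp.pow_right j).symm)
  have h2 : (x * y) ^ orderOf y = x ^ orderOf y := by
    rw [hc.mul_pow, pow_orderOf_eq_one, mul_one]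
  have h3 : centralizer ({x * y} : Set G) ≤ centralizer ({x} : Set G) := by
    refine (cent_pow_le (x * y) (orderOf y)).trans ?_
    rw [h2]
    exact cent_le_of_mem h1
  have h4 : x * y ∉ center G := by
    intro h
    apply hx
    rw [mem_center_iff] at h ⊢
    intro g
    exact mem_cent.1 (h3 (mem_cent.2 (h g)))
  have h5 := hF _ _ h4 hx h3
  intro c hc1
  have h6 : c ∈ centralizer ({x * y} : Set G) := by rw [h5]; exact hc1
  rw [mem_cent] at hc1 h6 ⊢
  have h7 : x * (c * y) = x * (y * c) := by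
    calc x * (c * y) = (x * c) * y := by group
      _ = (c * x) * y := by rw [hc1]
      _ = c * (x * y) := by group
      _ = x * y * c := h6
      _ = x * (y * c) := by group
  exact mul_left_cancel h7

theorem claim2 {x : G} (hx : x ∉ center G) :
    (∀ c ∈ centralizer ({x} : Set G), ∀ d ∈ centralizer ({x} : Set G), c * d = d * c) ∨
    ∃ p : ℕ, p.Prime ∧ ∀ c ∈ centralizer ({x} : Set G), ∃ k : ℕ, c ^ p ^ k ∈ center G := by
  obtain ⟨p, hp, k, j, hk, hj⟩ := prim hx
  have e1 := hF _ _ hx hk (cent_pow_le x k)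
  rw [e1]
  set x' := x ^ k with hx'
  by_cases hA : ∃ y ∈ centralizer ({x'} : Set G), (orderOf y).Coprime p ∧ y ∉ center G
  · left
    obtain ⟨y, hy, hyp, hyZ⟩ := hA
    have e2 := hF _ _ hk hyZ (claim1 hF hk ⟨j, hj⟩ hy hyp)
    obtain ⟨q, hq, l, i, hl, hi⟩ := prim hyZ
    have e3 := hF _ _ hyZ hl (cent_pow_le y l)
    have hqp : q ≠ p := by
      rintro rfl
      have h1 : orderOf (y ^ l) ∣ orderOf y := orderOf_pow_dvd l
      rw [hi] at h1
      have h2 : (q ^ i).Coprime q := Nat.Coprime.coprime_dvd_left h1 hyp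
      have h3 : i = 0 := by
        by_contra h
        have := Nat.Coprime.eq_one_of_dvd h2.symm (dvd_pow_self q h)
        exact hq.one_lt.ne' this
      rw [h3, pow_zero, orderOf_eq_one_iff] at hi
      rw [hi] at hl
      exact hl (one_mem _)
    intro c hc d hd
    by_contra hcd
    have hcK : c ∉ centralizer ((centralizer ({x'} : Set G) : Subgroup G) : Set G) := by
      intro h
      rw [mem_centralizer_iff] at h
      exact hcd (h d hd).symm
    obtain ⟨r, hr, s, t, hs, ht⟩ := prim hcK
    apply hs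
    rw [mem_centralizer_iff]
    have hcs := pow_mem hc s
    by_cases hrp : r = p
    · have hrq : (orderOf (c ^ s)).Coprime q := by
        rw [ht, hrp]
        exact Nat.Coprime.pow_left _ ((Nat.coprime_primes hp hq).2 (Ne.symm hqp))
      intro g hg
      have hg' : g ∈ centralizer ({x'} : Set G) := hg
      rw [e2, e3] at hg' hcs
      exact mem_cent.1 (claim1 hF hl ⟨i, hi⟩ hcs hrq hg')
    · have hrp' : (orderOf (c ^ s)).Coprime p := by
        rw [ht]
        exact Nat.Coprime.pow_left _ ((Nat.coprime_primes hr hp).2 hrp)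
      intro g hg
      exact mem_cent.1 (claim1 hF hk ⟨j, hj⟩ hcs hrp' hg)
  · right
    push Not at hA
    refine ⟨p, hp, fun c hc => ⟨(orderOf c).factorization p, ?_⟩⟩
    apply hA _ (pow_mem hc _)
    rw [orderOf_pow_of_dvd (pow_ne_zero _ hp.ne_zero) (Nat.ordProj_dvd _ _)]
    exact (Nat.coprime_ordCompl hp (orderOf_pos c).ne').symm

omit hF in
theorem card_map_mul {K : Subgroup G} (hK : center G ≤ K) :
    Nat.card (K.map (QuotientGroup.mk' (center G))) * Nat.card (center G) = Nat.card K := by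
  have h1 := Subgroup.relIndex_ker K (QuotientGroup.mk' (center G))
  rw [QuotientGroup.ker_mk'] at h1
  rw [← h1]
  exact H28.RelSyl.relIndex_mul_card hK

omit hF in
theorem center_le (x : G) : center G ≤ centralizer ({x} : Set G) := by
  intro z hz
  rw [mem_cent]
  exact (mem_center_iff.1 hz x).symm

omit hF in
/-- the case of a centralizer which is a `p`-group modulo the centre -/
theorem solvable_of_p {a b : ℕ}
    (hab : ∀ x : G, x ∉ center G → Nat.card (centralizer ({x} : Set G)) = a ∨
      Nat.card (centralizer ({x} : Set G)) = b)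
    (h33 : ∀ p : ℕ, p.Prime → (∀ x y : G, (orderOf x).Coprime p → (orderOf y).Coprime p →
      x ∉ center G → y ∉ center G →
      Nat.card (centralizer ({x} : Set G)) = Nat.card (centralizer ({y} : Set G))) →
      Group.IsSolvable G)
    {x : G} (hx : x ∉ center G) {p : ℕ} (hp : p.Prime)
    (h : ∀ c ∈ centralizer ({x} : Set G), ∃ k : ℕ, c ^ p ^ k ∈ center G) : Group.IsSolvable G := by
  have : Fact p.Prime := ⟨hp⟩
  apply h33 p hp
  have key : ∀ y : G, (orderOf y).Coprime p → y ∉ center G →
      Nat.card (centralizer ({y} : Set G)) ≠ Nat.card (centralizer ({x} : Set G)) := by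
    intro y hy hyZ heq
    have h1 := card_map_mul (center_le y)
    have h2 := card_map_mul (center_le x)
    rw [heq, ← h2] at h1
    have h3 := Nat.eq_of_mul_eq_mul_right Nat.card_pos h1
    have h4 : IsPGroup p ((centralizer ({x} : Set G)).map (QuotientGroup.mk' (center G))) := by
      rintro ⟨_, c, hc, rfl⟩
      obtain ⟨k, hk⟩ := h c hc
      refine ⟨k, Subtype.ext ?_⟩
      change (QuotientGroup.mk c : G ⧸ center G) ^ p ^ k = 1
      rw [← QuotientGroup.mk_pow, QuotientGroup.eq_one_iff]
      exact hk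
    obtain ⟨n, hn⟩ := IsPGroup.iff_card.1 h4
    have h5 : IsPGroup p ((centralizer ({y} : Set G)).map (QuotientGroup.mk' (center G))) :=
      IsPGroup.of_card (h3.trans hn)
    obtain ⟨k, hk⟩ := h5 ⟨_, y, mem_cent.2 rfl, rfl⟩
    have h6 : (QuotientGroup.mk y : G ⧸ center G) ^ p ^ k = 1 := congrArg Subtype.val hk
    rw [← QuotientGroup.mk_pow, QuotientGroup.eq_one_iff] at h6
    apply hyZ
    have h7 := mem_zpowers_pow (x := y) (n := p ^ k) (hy.pow_right k)
    obtain ⟨l, hl⟩ := mem_zpowers_iff.1 h7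
    rw [← hl]
    exact zpow_mem h6 l
  intro y z hy hz hyZ hzZ
  have h1 := key y hy hyZ
  have h2 := key z hz hzZ
  rcases hab x hx with h3 | h3 <;> rcases hab y hyZ with h4 | h4 <;> rcases hab z hzZ with h5 | h5 <;>
    omega

end F

/-- the partition of `G / Z(G)` -/
def Pt (G : Type*) [Group G] : Set (Subgroup (G ⧸ center G)) :=
  {K | ∃ x : G, x ∉ center G ∧ K = (centralizer ({x} : Set G)).map (QuotientGroup.mk' (center G))}

omit [Finite G] in
theorem mem_map {x y : G} : (QuotientGroup.mk y : G ⧸ center G) ∈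
    (centralizer ({x} : Set G)).map (QuotientGroup.mk' (center G)) ↔ y ∈ centralizer ({x} : Set G) := by
  constructor
  · rintro ⟨z, hz, hzy⟩
    change (QuotientGroup.mk z : G ⧸ center G) = QuotientGroup.mk y at hzy
    rw [QuotientGroup.eq] at hzy
    have h1 : y = z * (z⁻¹ * y) := by group
    rw [h1]
    refine mul_mem hz ?_
    rw [mem_centralizer_singleton_iff]
    exact (mem_center_iff.1 hzy x).symm
  · intro h
    exact ⟨y, h, rfl⟩

theorem caseA {G : Type*} [Group G] [Finite G] (a b : ℕ)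
    (hF : ∀ x y : G, x ∉ Subgroup.center G → y ∉ Subgroup.center G →
      Subgroup.centralizer {x} ≤ Subgroup.centralizer {y} →
      Subgroup.centralizer {x} = Subgroup.centralizer {y})
    (hab : ∀ x : G, x ∉ Subgroup.center G → Nat.card (Subgroup.centralizer {x}) = a ∨
      Nat.card (Subgroup.centralizer {x}) = b)
    (h33 : ∀ p : ℕ, p.Prime → (∀ x y : G, (orderOf x).Coprime p → (orderOf y).Coprime p →
      x ∉ Subgroup.center G → y ∉ Subgroup.center G →
      Nat.card (Subgroup.centralizer {x}) = Nat.card (Subgroup.centralizer {y})) → Group.IsSolvable G) :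
    Group.IsSolvable G := by
  by_contra hns
  -- all centralizers are abelian and not `p`-groups modulo the centre
  have hnp : ∀ x : G, x ∉ center G → ∀ p : ℕ, p.Prime →
      ¬ ∀ c ∈ centralizer ({x} : Set G), ∃ k : ℕ, c ^ p ^ k ∈ center G :=
    fun x hx p hp h => hns (solvable_of_p hab h33 hx hp h)
  have hcomm : ∀ x : G, x ∉ center G → ∀ c ∈ centralizer ({x} : Set G),
      ∀ d ∈ centralizer ({x} : Set G), c * d = d * c := by
    intro x hx
    rcases claim2 hF hx with h | ⟨p, hp, h⟩
    · exact h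
    · exact absurd h (hnp x hx p hp)
  have heq : ∀ x y : G, x ∉ center G → y ∉ center G → y ∈ centralizer ({x} : Set G) →
      centralizer ({x} : Set G) = centralizer ({y} : Set G) := by
    intro x y hx hy hxy
    apply hF _ _ hx hy
    intro c hc
    rw [mem_cent]
    exact hcomm x hx c hc y hxy
  set π := QuotientGroup.mk' (center G) with hπ
  -- no `p`-centralizers in the quotient
  have hPC : ¬ PC (G ⧸ center G) := by
    rintro ⟨p, hp, g, hg, h⟩
    induction g using QuotientGroup.induction_on with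
    | H g =>
    rw [Ne, QuotientGroup.eq_one_iff] at hg
    apply hnp g hg p hp
    intro c hc
    obtain ⟨k, hk⟩ := h (QuotientGroup.mk c) (by
      rw [← QuotientGroup.mk_mul, ← QuotientGroup.mk_mul, mem_cent.1 hc])
    refine ⟨k, ?_⟩
    rw [← QuotientGroup.mk_pow, QuotientGroup.eq_one_iff] at hk
    exact hk
  have hsolq : ¬ Group.IsSolvable (G ⧸ center G) := by
    intro h
    apply hns
    exact (Group.isSolvable_iff_subgroup_quotient (center G)).2
      ⟨Group.isSolvable_of_comm fun a b => Subtype.ext (mem_center_iff.1 b.2 a), h⟩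
  have hex : ∃ x : G, x ∉ center G := by
    by_contra hcon
    push Not at hcon
    exact hns (Group.isSolvable_of_comm fun a b => (mem_center_iff.1 (hcon b) a))
  have hpart : ∀ g : G ⧸ center G, g ≠ 1 → ∃! H : Subgroup (G ⧸ center G), H ∈ Pt G ∧ g ∈ H := by
    intro g hg
    induction g using QuotientGroup.induction_on with
    | H g =>
    rw [Ne, QuotientGroup.eq_one_iff] at hg
    refine ⟨(centralizer ({g} : Set G)).map π, ⟨⟨g, hg, rfl⟩, mem_map.2 (mem_cent.2 rfl)⟩, ?_⟩
    rintro _ ⟨⟨x, hx, rfl⟩, hgx⟩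
    rw [heq x g hx hg (mem_map.1 hgx)]
  have hS1 : ∀ H ∈ Pt G, H ≠ ⊥ := by
    rintro _ ⟨x, hx, rfl⟩ h
    have h1 : (QuotientGroup.mk x : G ⧸ center G) ∈
      (centralizer ({x} : Set G)).map (QuotientGroup.mk' (center G)) := mem_map.2 (mem_cent.2 rfl)
    rw [h, mem_bot, QuotientGroup.eq_one_iff] at h1
    exact hx h1
  have hS2 : ∃ H ∈ Pt G, ∃ K ∈ Pt G, H ≠ K := by
    obtain ⟨x, hx⟩ := hex
    have h1 : ∃ y : G, y ∉ centralizer ({x} : Set G) := by
      by_contra hcon
      push Not at hcon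
      exact hx (mem_center_iff.2 fun g => mem_cent.1 (hcon g))
    obtain ⟨y, hy⟩ := h1
    have hyZ : y ∉ center G := fun h => hy (center_le x h)
    refine ⟨_, ⟨x, hx, rfl⟩, _, ⟨y, hyZ, rfl⟩, fun h => hy ?_⟩
    apply mem_map.1
    rw [h]
    exact mem_map.2 (mem_cent.2 rfl)
  rcases H73.Pt.main (fun H _ _ hH => H18.OddOrder.solvable hH) (Pt G) hS2 hS1 hpart with
    ⟨⟨e⟩⟩ | ⟨p, hp, hH⟩ | ⟨H, hH⟩ | ⟨F, fF, ftF, -, ⟨e⟩⟩ | ⟨F, fF, ftF, -, -, ⟨e⟩⟩ | h
  · exact hPC (pc_s4.of_equiv e)
  · -- Hughes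
    apply hPC
    obtain ⟨g, hg⟩ : ∃ g, g ∉ closure {g : G ⧸ center G | g ^ p ≠ 1} := by
      by_contra hcon
      push Not at hcon
      exact hH (eq_top_iff.2 fun x _ => hcon x)
    have hout : ∀ c, c ∉ closure {g : G ⧸ center G | g ^ p ≠ 1} → c ^ p = 1 := by
      intro c hc
      by_contra h
      exact hc (subset_closure h)
    refine ⟨p, hp, g, ?_, fun c hc => ⟨1, ?_⟩⟩
    · rintro rfl; exact hg (one_mem _)
    · rw [pow_one]
      by_cases hcH : c ∈ closure {g : G ⧸ center G | g ^ p ≠ 1}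
      · have h1 : c * g ∉ closure {g : G ⧸ center G | g ^ p ≠ 1} := by
          intro h
          exact hg ((Subgroup.mul_mem_cancel_left _ hcH).1 h)
        have h2 := hout _ h1
        rw [(show Commute c g from hc).mul_pow, hout g hg, mul_one] at h2
        exact h2
      · exact hout c hcH
  · -- Frobenius
    obtain ⟨N0, hN0, hN0n, -, -⟩ := H1.FpfNilp.frobeniusKernel_nilpotent hH
    obtain ⟨C, hC, hC1, hNb, hNC, hNn, hf1, hf2, hcop⟩ := H69.FrobData.frob_data N0 ⟨H, hH, hN0.symm⟩
    apply hsolq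
    have hCs : Group.IsSolvable C := by
      by_cases hodd : Odd (Nat.card C)
      · exact H18.OddOrder.solvable hodd
      · rw [Nat.not_odd_iff_even, even_iff_two_dvd] at hodd
        obtain ⟨t, ht⟩ := exists_prime_orderOf_dvd_card' 2 hodd
        have ht2 : orderOf (t : G ⧸ center G) = 2 := by rw [Subgroup.orderOf_coe]; exact ht
        -- `t` is the unique involution
        have huniq : ∀ s ∈ C, orderOf s = 2 → s = t := fun s hs hs2 =>
          H69.FrobData.involution_unique hNb hf1 hs t.2 hs2 ht2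
        have hcen : ∀ s ∈ C, s * t = t * s := by
          intro s hs
          have h1 : s * t * s⁻¹ = t := by
            apply huniq _ (mul_mem (mul_mem hs t.2) (inv_mem hs))
            rw [← ht2]
            exact MulEquiv.orderOf_eq (MulAut.conj s) (t : G ⧸ center G)
          rwa [mul_inv_eq_iff_eq_mul] at h1
        obtain ⟨K, ⟨hKP, htK⟩, hKu⟩ := hpart (t : G ⧸ center G) (by
          intro h; rw [h, orderOf_one] at ht2; omega)
        have hCK : C ≤ K := by
          intro s hs
          by_cases hs1 : s = 1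
          · rw [hs1]; exact one_mem _
          by_cases hs2 : s ^ 2 = 1
          · rw [huniq s hs (orderOf_eq_prime hs2 hs1)]; exact htK
          · have htt : (t : G ⧸ center G) ^ 2 = 1 := by rw [← ht2]; exact pow_orderOf_eq_one _
            have hts : (s * t) ^ 2 = s ^ 2 := by
              rw [(show Commute s t from hcen s hs).mul_pow, htt, mul_one]
            obtain ⟨K1, ⟨hK1P, hs2K1⟩, hK1u⟩ := hpart (s ^ 2) hs2
            obtain ⟨K2, ⟨hK2P, hsK2⟩, -⟩ := hpart s hs1
            obtain ⟨K3, ⟨hK3P, hstK3⟩, -⟩ := hpart (s * t) (by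
              intro h; rw [h, one_pow] at hts; exact hs2 hts.symm)
            have e1 : K2 = K1 := hK1u K2 ⟨hK2P, pow_mem hsK2 2⟩
            have e2 : K3 = K1 := hK1u K3 ⟨hK3P, by
              change s ^ 2 ∈ K3
              rw [← hts]; exact pow_mem hstK3 2⟩
            rw [e1] at hsK2
            rw [e2] at hstK3
            have h5 : (t : G ⧸ center G) ∈ K1 := by
              have := mul_mem (inv_mem hsK2) hstK3
              rwa [inv_mul_cancel_left] at this
            have e3 : K1 = K := hKu K1 ⟨hK1P, h5⟩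
            rw [← e3]; exact hsK2
        obtain ⟨x, hx, rfl⟩ := hKP
        apply Group.isSolvable_of_comm
        rintro ⟨c, hc⟩ ⟨d, hd⟩
        obtain ⟨c', hc', rfl⟩ := hCK hc
        obtain ⟨d', hd', rfl⟩ := hCK hd
        apply Subtype.ext
        change (QuotientGroup.mk' (center G)) c' * (QuotientGroup.mk' (center G)) d' =
          (QuotientGroup.mk' (center G)) d' * (QuotientGroup.mk' (center G)) c'
        rw [← map_mul, ← map_mul, hcomm x hx c' hc' d' hd']
    refine (Group.isSolvable_iff_subgroup_quotient N0).2 ⟨inferInstance, ?_⟩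
    refine Group.isSolvable_of_surjective (f := (QuotientGroup.mk' N0).comp C.subtype) ?_
    intro q
    obtain ⟨x, rfl⟩ := QuotientGroup.mk'_surjective N0 q
    obtain ⟨⟨n, c⟩, hnc⟩ := hNC.2 x
    refine ⟨c, ?_⟩
    rw [← hnc]
    change QuotientGroup.mk' N0 (c : G ⧸ center G) = QuotientGroup.mk' N0 ((n : G ⧸ center G) * c)
    rw [map_mul]
    have : QuotientGroup.mk' N0 (n : G ⧸ center G) = 1 := (QuotientGroup.eq_one_iff _).2 n.2
    rw [this, one_mul]
  · exact hPC (pc_psl.of_equiv e)
  · exact hPC (pc_pgl.of_equiv e)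
  · exact hPC (pc_sz h)

end H15.ItoA
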