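import Mathlib
import Cfsg.Agent.Lib.H19.SLMult

/-! A perfect central extension of odd kernel of `PSL(2, q)`, `q ≡ 3, 5 (mod 8)`, is trivial. -/

set_option autoImplicit false
open Subgroup

namespace H15.MC

universe u

theorem center_bot {G : Type u} [Group G] [Finite G] (hp : commutator G = ⊤)
    (hz : ∀ z ∈ center G, (∃ k : ℕ, z ^ 2 ^ k = 1) → z = 1) (F : Type) [Field F] [Fintype F]
    (h8 : Fintype.card F % 8 = 3 ∨ Fintype.card F % 8 = 5) (h5 : 5 ≤ Fintype.card F)
    (e : G ⧸ center G ≃* Matrix.ProjectiveSpecialLinearGroup (Fin 2) F) : center G = ⊥ := by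
  have hm := H19.SLCov.multiplier_psl (F := F) 2 le_rfl (fun _ => by omega) (by omega) (by omega) (by omega) (by omega) (by omega)
  have hg : Nat.gcd 2 (Fintype.card F - 1) = 2 := Nat.gcd_eq_left (by omega)
  rw [hg] at hm
  let s : Shrink.{0} G ≃* G := Shrink.mulEquiv
  have : Finite (Shrink.{0} G) := Finite.of_equiv G s.symm.toEquiv
  let σ : Shrink.{0} G →* Matrix.ProjectiveSpecialLinearGroup (Fin 2) F :=
    e.toMonoidHom.comp ((QuotientGroup.mk' (center G)).comp s.toMonoidHom)
  have hker : ∀ x, x ∈ σ.ker ↔ s x ∈ center G := by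
    intro x
    rw [MonoidHom.mem_ker]
    change e (QuotientGroup.mk' (center G) (s x)) = 1 ↔ _
    rw [map_eq_one_iff e e.injective]
    exact QuotientGroup.eq_one_iff (s x)
  have hst : Cfsg.IsStemExtension σ := by
    refine ⟨?_, ?_, ?_⟩
    · intro y
      obtain ⟨g, hg⟩ := QuotientGroup.mk'_surjective (center G) (e.symm y)
      refine ⟨s.symm g, ?_⟩
      change e (QuotientGroup.mk' (center G) (s (s.symm g))) = y
      rw [MulEquiv.apply_symm_apply, hg, MulEquiv.apply_symm_apply]
    · intro x hx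
      rw [mem_center_iff]
      intro y
      apply s.injective
      rw [map_mul, map_mul]
      exact mem_center_iff.1 ((hker x).1 hx) (s y)
    · have h1 : commutator (Shrink.{0} G) = ⊤ := by
        have h2 := Subgroup.map_commutator (⊤ : Subgroup G) ⊤ s.symm.toMonoidHom
        have h3 : (⊤ : Subgroup G).map s.symm.toMonoidHom = ⊤ := Subgroup.map_top_of_surjective _ s.symm.surjective
        rw [h3] at h2
        change (commutator G).map s.symm.toMonoidHom = commutator (Shrink.{0} G) at h2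
        rw [← h2, hp, h3]
      rw [h1]
      exact le_top
  obtain ⟨π, hπ⟩ := hm.2 (Shrink.{0} G) σ hst
  rw [eq_bot_iff]
  intro z hzc
  rw [mem_bot]
  apply hz z hzc
  refine ⟨1, ?_⟩
  have hx : s.symm z ∈ σ.ker := (hker _).2 (by rw [MulEquiv.apply_symm_apply]; exact hzc)
  obtain ⟨a, ha⟩ := hπ ⟨s.symm z, hx⟩
  have ha2 : a ^ 2 = 1 := by
    have := pow_card_eq_one' (x := a)
    rwa [Nat.card_congr (Multiplicative.toAdd (α := ZMod 2)), Nat.card_zmod] at this
  have h1 : (⟨s.symm z, hx⟩ : σ.ker) ^ 2 = 1 := by rw [← ha, ← map_pow, ha2, map_one]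
  have h2 : (s.symm z) ^ 2 = 1 := congrArg Subtype.val h1
  rw [← map_pow, map_eq_one_iff s.symm s.symm.injective] at h2
  simpa using h2

end H15.MC
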