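import Cfsg.Agent.Lib.H89.MX0
import Cfsg.Agent.Lib.H57.Small6

/-!
S5316, piece R: essential subgroups of order at most `p³`.
-/

set_option autoImplicit false

namespace H15.MXR

open Subgroup Cfsg Cfsg.FusionSystem H67.HallPetrescu H57.Mc H89.MX

section G

variable {V : Type*} [Group V] [Finite V] {p : ℕ} [hp : Fact p.Prime]

theorem cases_small (h5 : 5 ≤ p) (hV : IsPGroup p V) {k : ℕ} (hk : Nat.card V = p ^ k) (hk3 : k ≤ 3)
    (hnr : ¬ H57.Small.Reach p (⊤ : Subgroup V)) :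
    (k = 2 ∧ (∀ a b : V, a * b = b * a) ∧ ∀ x : V, x ^ p = 1) ∨
    (k = 3 ∧ (∀ a b : V, a * b = b * a) ∧ ∀ x : V, x ^ p = 1) ∨
    (k = 3 ∧ IsExtraspecial p V ∧ ∀ x : V, x ^ p = 1) := by
  by_cases hcomm : ∀ a b : V, a * b = b * a
  · obtain ⟨l, hl⟩ := IsPGroup.iff_card.1 (hV.to_subgroup (H57.Ess.tor hcomm p))
    have hlk : l ≤ k := by
      have h1 := Subgroup.card_le_card_group (H57.Ess.tor hcomm p)
      rw [hl, hk] at h1
      exact (Nat.pow_le_pow_iff_right hp.out.one_lt).1 h1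
    by_cases hl2 : l ≤ 2
    · left
      obtain ⟨b, hb1, -, hb2, hb3⟩ := H57.Small.homocyclic_data hV hcomm (by
        rw [hl]; exact Nat.pow_le_pow_right hp.out.pos hl2) hnr
      have h1 := hb3 (b + 1) le_rfl
      have h2 : H57.Ess.tor hcomm (p ^ (b + 1)) = ⊤ := by
        rw [eq_top_iff]; intro x _; exact hb1 x
      rw [h2, Subgroup.card_top, hk] at h1
      have h3 := Nat.pow_right_injective hp.out.two_le h1
      have h4 : b = 0 := by omega
      subst h4
      refine ⟨by omega, hcomm, fun x => ?_⟩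
      have := hb1 x
      rwa [zero_add, pow_one] at this
    · right; left
      have h3 : k = 3 := by omega
      have h4 : l = 3 := by omega
      refine ⟨h3, hcomm, fun x => ?_⟩
      have h5 : H57.Ess.tor hcomm p = ⊤ := Subgroup.eq_top_of_card_eq _ (by rw [hl, hk, h3, h4])
      have h6 : x ∈ H57.Ess.tor hcomm p := by rw [h5]; exact mem_top x
      exact h6
  · right; right
    obtain ⟨m, hm, hm1, hm2, -⟩ := H57.Small.center_cases hV hcomm hk
    have h3 : k = 3 := by omega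
    subst h3
    rcases H57.Small.card_cube hcomm hk hnr with ⟨-, h1, h2⟩ | ⟨h1, -⟩
    · exact ⟨rfl, h1, h2⟩
    · omega

end G

variable {Ω : Type*} [Group Ω] {S : Subgroup Ω} [Finite S] {p n : ℕ} [hp : Fact p.Prime] {F : FusionSystem S} {E C W B : Subgroup Ω} {τ : MulAut E}

theorem elem (h5 : 5 ≤ p) (hS : IsPGroup p ↥S) (hF : F.IsSaturated p) (hE : F.IsEssential p E)
    (hnp : ¬ ((Nat.card ↥E = p ^ 2 ∧ IsElementaryAbelian p E) ∨
      (Nat.card ↥E = p ^ 3 ∧ IsExtraspecial p ↥E ∧ Monoid.exponent ↥E = p)))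
    (hlt : ¬ p ^ 4 ≤ Nat.card ↥E) : Nat.card E = p ^ 3 ∧ IsElementaryAbelian p E := by
  have hES : E ≤ S := (H57.Ess.lt_of_essential hS hF hE).le
  haveI : Finite E := Finite.of_injective _ (Subgroup.inclusion_injective hES)
  have hEp : IsPGroup p E := hS.to_le hES
  obtain ⟨k, hk⟩ := IsPGroup.iff_card.1 hEp
  have hk3 : k ≤ 3 := by
    by_contra h
    apply hlt
    rw [hk]
    exact Nat.pow_le_pow_right hp.out.pos (by omega)
  have hnr := H57.Small.not_reach hS hF hE
  have hel : (∀ a b : E, a * b = b * a) → (∀ x : E, x ^ p = 1) → IsElementaryAbelian p E := by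
    intro hc hx
    refine ⟨⟨⟨hc⟩⟩, fun a ha => ?_⟩
    exact congrArg Subtype.val (hx ⟨a, ha⟩)
  rcases cases_small h5 hEp hk hk3 hnr with ⟨h1, h2, h3⟩ | ⟨h1, h2, h3⟩ | ⟨h1, h2, h3⟩
  · exfalso
    apply hnp
    left
    exact ⟨by rw [hk, h1], hel h2 h3⟩
  · exact ⟨by rw [hk, h1], hel h2 h3⟩
  · exfalso
    apply hnp
    right
    refine ⟨by rw [hk, h1], h2, ?_⟩
    have h4 : Monoid.exponent E ∣ p := Monoid.exponent_dvd_of_forall_pow_eq_one h3
    rcases (Nat.dvd_prime hp.out).1 h4 with h5' | h5'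
    · exfalso
      rw [Monoid.exp_eq_one_iff] at h5'
      have := Finite.card_le_one_iff_subsingleton.2 h5'
      rw [hk, h1] at this
      have := Nat.one_lt_pow (n := 3) (by norm_num) hp.out.one_lt
      omega
    · exact h5'

end H15.MXR
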