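import Cfsg.Agent.Lib.H89.MX0

/-!
S5316, piece S1a.
-/

set_option autoImplicit false

namespace H15.MXS1a

open Subgroup Cfsg Cfsg.FusionSystem H67.HallPetrescu H57.Mc H89.MX
open scoped commutatorElement

section G

variable {G : Type*} [Group G] [Finite G] {p n : ℕ} [hp : Fact p.Prime]

theorem card_le (h : MC p n G) (h5 : 5 ≤ p) (hn : 5 ≤ n) {A : Subgroup G} {y : G} (hA : ∀ x ∈ A, x * y = y * x)
    (hy : y ∉ TC G (n - 2)) (hy2 : y ∉ TC G 2) : Nat.card A ≤ p * p := by
  have hU : Unif n y := by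
    intro i hi hin hc
    by_cases hi2 : i = n - 2
    · rw [hi2] at hc; exact hy hc
    · rw [h.TC_eq hi hin ((h.blackburn (by omega) (by omega)).1 i hi (by omega))] at hc
      exact hy2 hc
  have h1 : A ⊓ TC G 2 ≤ lcsF G (n - 1) := by
    rintro x ⟨hx, hx2⟩
    exact h.cent (by omega) hU hx2 (by rw [commutatorElement_eq_one_iff_mul_comm]; exact hA x hx)
  have h2 : Nat.card (A ⊓ TC G 2 : Subgroup G) ≤ p := by
    have h3 := Subgroup.card_le_of_le h1
    rw [h.cardK (n - 1) (by omega) (by omega), show n - (n - 1) = 1 by omega, pow_one] at h3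
    exact h3
  haveI := h.normal_P1 (by omega)
  have h4 : (TC G 2).relIndex A ∣ p := by
    have := Subgroup.relIndex_dvd_index_of_normal (TC G 2) A
    rwa [h.index_TC le_rfl (by omega)] at this
  have h5' := Nat.le_of_dvd hp.out.pos h4
  have h6 : Nat.card (A ⊓ TC G 2 : Subgroup G) * (TC G 2).relIndex A = Nat.card A := by
    have h7 := Subgroup.relIndex_mul_relIndex ⊥ (A ⊓ TC G 2) A bot_le inf_le_left
    rw [Subgroup.relIndex_bot_left, Subgroup.relIndex_bot_left, Subgroup.inf_relIndex_left] at h7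
    exact h7
  rw [← h6]
  exact Nat.mul_le_mul h2 h5'

end G

variable {Ω : Type*} [Group Ω] {S : Subgroup Ω} [Finite S] {p n : ℕ} [hp : Fact p.Prime] {F : FusionSystem S} {E C W B : Subgroup Ω} {τ : MulAut E}

theorem s1a (D : Dat S p n F E) (h2 : ¬ K S (n - 2) ≤ E) :
    E ≤ T S 2 ∧ ¬ TC ↥S 2 ≤ TC ↥S (n - 2) ∧ ∃ y ∈ E, y ∉ T S (n - 2) := by
  have hES : E ≤ S := D.ess.1.1
  have hn5 := D.hn
  have hn : lcsF S n = ⊥ := D.mc.K_n (by omega) le_rfl
  have hCE := H57.Ess.centralizerIn_le_of_essential (F := F) (p := p) D.ess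
  have hmemT : ∀ (i : ℕ) (x : S), (x : Ω) ∈ T S i ↔ x ∈ TC S i := by
    intro i x
    constructor
    · rintro ⟨z, hz, hzx⟩
      rwa [← Subtype.ext hzx]
    · intro hx; exact ⟨x, hx, rfl⟩
  -- some element of `E` is outside `T S (n - 2)`
  have hex : ∃ y ∈ E, y ∉ T S (n - 2) := by
    by_contra hc
    push Not at hc
    apply h2
    rintro _ ⟨z, hz, rfl⟩
    apply hCE
    refine ⟨z.2, Subgroup.mem_centralizer_iff.2 ?_⟩
    intro e he
    have h3 := (hmemT (n - 2) ⟨e, hES he⟩).1 (hc e he)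
    have h4 := h3 z hz
    rw [show n - 2 + 2 = n by omega, hn, Subgroup.mem_bot, commutatorElement_eq_one_iff_mul_comm] at h4
    exact (congrArg Subtype.val h4).symm
  -- no element of `E` is uniform
  have hno : ∀ y ∈ E, y ∉ T S (n - 2) → y ∈ T S 2 := by
    intro y hy hyn
    by_contra hy2
    have h3 : Nat.card (E.subgroupOf S) ≤ p * p := by
      refine card_le (y := ⟨y, hES hy⟩) D.mc D.hp D.hn (fun x hx => ?_) (fun h => hyn ((hmemT _ ⟨y, hES hy⟩).2 h))
        (fun h => hy2 ((hmemT _ ⟨y, hES hy⟩).2 h))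
      exact Subtype.ext (D.comm x (mem_subgroupOf.1 hx) y hy)
    rw [Nat.card_congr (Subgroup.subgroupOfEquivOfLe hES).toEquiv, D.card] at h3
    have h4 : p * p < p ^ 3 := by
      rw [← pow_two]
      exact Nat.pow_lt_pow_right hp.out.one_lt (by norm_num)
    omega
  obtain ⟨y, hy, hyn⟩ := hex
  have hy2 := hno y hy hyn
  refine ⟨?_, ?_, y, hy, hyn⟩
  · intro e he
    by_cases h3 : e ∈ T S (n - 2)
    · have h4 : e * y ∉ T S (n - 2) := by
        intro h5
        apply hyn
        have := mul_mem (inv_mem h3) h5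
        rwa [inv_mul_cancel_left] at this
      have h5 := hno _ (mul_mem he hy) h4
      have := mul_mem h5 (inv_mem hy2)
      rwa [mul_inv_cancel_right] at this
    · exact hno e he h3
  · intro hle
    apply hyn
    obtain ⟨z, hz, rfl⟩ := hy2
    exact ⟨z, hle hz, rfl⟩

end H15.MXS1a
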