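import Cfsg.Agent.Lib.H89.MX0

/-!
S5316, piece ZB1: elements of `C_S(Z_2)` outside `γ_2` are conjugate into `E`.
-/

set_option autoImplicit false

namespace H15.MXZ1

open Subgroup Cfsg Cfsg.FusionSystem H67.HallPetrescu H57.Mc H89.MX
open scoped commutatorElement

section G

variable {G : Type*} [Group G] [Finite G] {p n : ℕ} [hp : Fact p.Prime]

theorem conj_G (h : MC p n G) (h5 : 5 ≤ p) (h6 : 6 ≤ n) {t y : G} (ht : t ∈ TC G (n - 2)) (ht2 : t ∉ TC G 2)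
    (hy : y ∈ TC G (n - 2)) (hy2 : y ∉ lcsF G 2) :
    ∃ g : G, ∃ k : ℤ, ∃ z ∈ lcsF G (n - 1), g * y * g⁻¹ = t ^ k * z := by
  have hK : lcsF G 2 ≤ TC G (n - 2) := K2_le_TC _
  have hK2 : lcsF G 2 ≤ TC G 2 := K2_le_TC _
  have hrel : (lcsF G 2).relIndex (TC G (n - 2)) = p := by
    have h1 := Subgroup.relIndex_mul_index hK
    rw [h.index_K2 (by omega), h.index_TC (i := n - 2) (by omega) (by omega), pow_two] at h1
    exact Nat.eq_of_mul_eq_mul_right hp.out.pos h1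
  have htK : t ∉ lcsF G 2 := fun h1 => ht2 (hK2 h1)
  have hD : TC G (n - 2) ≤ lcsF G 2 ⊔ zpowers t :=
    le_of_relIndex hrel le_sup_left ht htK (mem_sup_right (mem_zpowers t)) hK
  have hyD := hD hy
  rw [← SetLike.mem_coe, Subgroup.normal_mul] at hyD
  obtain ⟨w, hw, s, hs, hws⟩ := Set.mem_mul.1 hyD
  obtain ⟨k, rfl⟩ := Subgroup.mem_zpowers_iff.1 hs
  have hsK : t ^ k ∉ lcsF G 2 := by
    intro h1
    apply hy2
    rw [← hws]
    exact mul_mem hw h1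
  have hs2 : t ^ k ∉ TC G 2 := by
    intro h1
    exact ht2 (le_of_relIndex hrel hK2 (zpow_mem ht k) hsK h1 hK ht)
  -- the quotient
  have hq := h.quot (N := n - 1) (by omega) (by omega)
  have hU : Unif (n - 1) (QuotientGroup.mk (t ^ k) : G ⧸ lcsF G (n - 1)) := by
    intro i hi hin hc
    rw [mk_memTC hin] at hc
    rw [h.TC_eq hi (by omega) ((h.blackburn (by omega) (by omega)).1 i hi (by omega))] at hc
    exact hs2 hc
  have hwq : (QuotientGroup.mk w : G ⧸ lcsF G (n - 1)) ∈ lcsF (G ⧸ lcsF G (n - 1)) 2 :=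
    (mk_memK (by omega)).2 hw
  obtain ⟨gb, hgb⟩ := hq.conj_unif (by omega) hU hwq
  obtain ⟨g, rfl⟩ := QuotientGroup.mk_surjective gb
  have h2 : (g * t ^ k * g⁻¹)⁻¹ * y ∈ lcsF G (n - 1) := by
    apply QuotientGroup.eq.1
    rw [← hws]
    exact hgb
  refine ⟨g⁻¹, k, g⁻¹ * ((g * t ^ k * g⁻¹)⁻¹ * y) * g⁻¹⁻¹, (normalK (n - 1)).conj_mem _ h2 g⁻¹, ?_⟩
  group

end G

variable {Ω : Type*} [Group Ω] {S : Subgroup Ω} [Finite S] {p n : ℕ} [hp : Fact p.Prime] {F : FusionSystem S} {E C W B : Subgroup Ω} {τ : MulAut E}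

theorem conj_E (D : Dat S p n F E) (h6 : 6 ≤ n) (h2 : K S (n - 2) ≤ E) (hE1 : ¬ E ≤ T S 2) :
    ∀ y ∈ S, (∀ z ∈ K S (n - 2), y * z = z * y) → y ∉ K S 2 → ∃ g ∈ S, g * y * g⁻¹ ∈ E := by
  intro y hyS hyc hy2
  have hES : E ≤ S := D.ess.1.1
  obtain ⟨e, he, he2⟩ := SetLike.not_le_iff_exists.1 hE1
  have hn : lcsF S n = ⊥ := D.mc.K_n (by omega) le_rfl
  have hmem : ∀ x : S, (∀ z ∈ K S (n - 2), (x : Ω) * z = z * x) → x ∈ TC S (n - 2) := by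
    intro x hx z hz
    have h3 : ⁅z, x⁆ = 1 := by
      rw [commutatorElement_eq_one_iff_mul_comm]
      apply Subtype.ext
      exact (hx z ⟨z, hz, rfl⟩).symm
    rw [h3]; exact one_mem _
  have heT : (⟨e, hES he⟩ : S) ∈ TC S (n - 2) := hmem _ fun z hz => D.comm e he z (h2 hz)
  have heT2 : (⟨e, hES he⟩ : S) ∉ TC S 2 := fun h3 => he2 ⟨_, h3, rfl⟩
  have hyT : (⟨y, hyS⟩ : S) ∈ TC S (n - 2) := hmem _ hyc
  have hyK : (⟨y, hyS⟩ : S) ∉ lcsF S 2 := fun h3 => hy2 ⟨_, h3, rfl⟩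
  obtain ⟨g, k, z, hz, hg⟩ := conj_G D.mc D.hp h6 heT heT2 hyT hyK
  refine ⟨g, g.2, ?_⟩
  have h4 : (g : Ω) * y * (g : Ω)⁻¹ = e ^ k * (z : Ω) := by
    have := congrArg Subtype.val hg
    simpa using this
  rw [h4]
  exact mul_mem (zpow_mem he k) (h2 ⟨z, K_anti (by omega) hz, rfl⟩)

end H15.MXZ1
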