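import Cfsg.Agent.Lib.H15.CompLen
import Cfsg.Agent.Lib.H15.ONS

set_option autoImplicit false

/-! The number of orbits of a point stabiliser in a primitive group with non-abelian minimal normal subgroup. -/

namespace H15.RankW

open MulAction Finset H15.CompLen

section weight
variable {G Ω T : Type*} [Group G] [MulAction G Ω] [Finite Ω] [Group T] {N : Subgroup G} [N.Normal] {m : ℕ}
  (e : N ≃* (Fin m → T)) (a : Ω)

open Classical in
/-- weight -/
noncomputable def wt (n : N) : ℕ := (univ.filter (fun i => e n i ≠ 1)).card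

/-- distance -/
noncomputable def dist (b : Ω) : ℕ := sInf {w | ∃ n : N, n • a = b ∧ wt e n = w}

omit [Finite Ω] [N.Normal] in
theorem dist_le (n : N) : dist e a (n • a) ≤ wt e n := Nat.sInf_le ⟨n, rfl, rfl⟩

variable [IsPretransitive N Ω]

omit [Finite Ω] [N.Normal] in
theorem dist_spec (b : Ω) : ∃ n : N, n • a = b ∧ wt e n = dist e a b := by
  obtain ⟨n, hn⟩ := exists_smul_eq N a b
  exact Nat.sInf_mem (s := {w | ∃ n : N, n • a = b ∧ wt e n = w}) ⟨_, n, hn, rfl⟩

omit [Finite Ω] [N.Normal] in
theorem dist_step (b : Ω) (w : ℕ) (h : dist e a b = w + 1) : ∃ b', dist e a b' = w := by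
  classical
  obtain ⟨n, hn, hw⟩ := dist_spec e a b
  rw [h] at hw
  have hne : (univ.filter (fun i => e n i ≠ 1)).Nonempty := by
    rw [← Finset.card_pos]
    have : (univ.filter (fun i => e n i ≠ 1)).card = w + 1 := by
      rw [← hw, wt]
    omega
  obtain ⟨i, hi⟩ := hne
  have hi1 : e n i ≠ 1 := (Finset.mem_filter.1 hi).2
  let s : N := e.symm (Pi.mulSingle i (e n i))
  have hs : ∀ j, e s j = if j = i then e n i else 1 := by
    intro j
    rw [show e s = Pi.mulSingle i (e n i) from e.apply_symm_apply _, Pi.mulSingle_apply]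
  have hn' : ∀ j, e (s⁻¹ * n) j = if j = i then 1 else e n j := by
    intro j
    rw [map_mul, map_inv, Pi.mul_apply, Pi.inv_apply, hs]
    by_cases hj : j = i
    · subst hj; simp
    · rw [if_neg hj, if_neg hj, inv_one, one_mul]
  have hwt' : wt e (s⁻¹ * n) = w := by
    rw [wt]
    have h1 : univ.filter (fun j => e (s⁻¹ * n) j ≠ 1) = (univ.filter (fun j => e n j ≠ 1)).erase i := by
      ext j
      rw [Finset.mem_filter, Finset.mem_erase, Finset.mem_filter, hn']
      by_cases hj : j = i
      · simp [hj]
      · simp [hj]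
    rw [h1, Finset.card_erase_of_mem hi, ← wt, hw]
    rfl
  refine ⟨(s⁻¹ * n) • a, le_antisymm ?_ ?_⟩
  · rw [← hwt']
    exact dist_le e a _
  · obtain ⟨n2, hn2, hw2⟩ := dist_spec e a ((s⁻¹ * n) • a)
    rw [← hw2]
    have h1 : (s * n2) • a = b := by
      rw [mul_smul, hn2, ← mul_smul, mul_inv_cancel_left, hn]
    have h2 := dist_le e a (s * n2)
    rw [h1, h] at h2
    have h3 : wt e (s * n2) ≤ wt e n2 + 1 := by
      rw [wt, wt]
      have h4 : univ.filter (fun j => e (s * n2) j ≠ 1) ⊆ insert i (univ.filter (fun j => e n2 j ≠ 1)) := by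
        intro j hj
        rw [Finset.mem_filter, map_mul, Pi.mul_apply, hs] at hj
        rw [Finset.mem_insert, Finset.mem_filter]
        by_cases hji : j = i
        · left; exact hji
        · right
          rw [if_neg hji, one_mul] at hj
          exact hj
      exact (Finset.card_le_card h4).trans (Finset.card_insert_le _ _)
    omega

omit [Finite Ω] [N.Normal] in
theorem dist_all (b : Ω) (j : ℕ) (h : j ≤ dist e a b) : ∃ b', dist e a b' = j := by
  obtain ⟨k, hk⟩ := Nat.exists_eq_add_of_le h
  induction k generalizing b with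
  | zero => exact ⟨b, by rw [hk, Nat.add_zero]⟩
  | succ k ih =>
    obtain ⟨b', hb'⟩ := dist_step e a b (j + k) (by rw [hk]; ring)
    exact ih b' (by omega) hb'

/-- the rank is at least `D + 1` -/
theorem rank_ge (hperm : ∀ k ∈ stabilizer G a, ∃ (σ : Equiv.Perm (Fin m)) (θ : Fin m → (T ≃* T)), ∀ (n : N) i,
        e (MulAut.conjNormal k n) (σ i) = θ i (e n i)) (D : ℕ) (b : Ω) (hD : ∀ n : N, n • a = b → D ≤ wt e n) :
    D + 1 ≤ Nat.card (orbitRel.Quotient (stabilizer G a) Ω) := by
  classical
  have hwt : ∀ k ∈ stabilizer G a, ∀ n : N, wt e (MulAut.conjNormal k n) = wt e n := by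
    intro k hk n
    obtain ⟨σ, θ, h⟩ := hperm k hk
    rw [wt, wt]
    symm
    apply Finset.card_bij (fun i _ => σ i)
    · intro i hi
      rw [Finset.mem_filter] at hi ⊢
      refine ⟨Finset.mem_univ _, ?_⟩
      rw [h]
      intro h1
      exact hi.2 ((map_eq_one_iff _ (θ i).injective).1 h1)
    · intro i _ j _ hij
      exact σ.injective hij
    · intro i hi
      rw [Finset.mem_filter] at hi
      refine ⟨σ.symm i, ?_, σ.apply_symm_apply i⟩
      rw [Finset.mem_filter]
      refine ⟨Finset.mem_univ _, ?_⟩
      intro h1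
      apply hi.2
      have h2 := h n (σ.symm i)
      rw [σ.apply_symm_apply, h1, map_one] at h2
      exact h2
  have hsm : ∀ k ∈ stabilizer G a, ∀ n : N, (MulAut.conjNormal k n) • a = k • (n • a) := by
    intro k hk n
    have h1 : k⁻¹ • a = a := by
      rw [inv_smul_eq_iff]; exact hk.symm
    rw [Subgroup.smul_def, MulAut.conjNormal_apply, mul_smul, h1, mul_smul]
    rfl
  have hle : ∀ k ∈ stabilizer G a, ∀ b : Ω, dist e a (k • b) ≤ dist e a b := by
    intro k hk b
    obtain ⟨n, hn, hw⟩ := dist_spec e a b
    rw [← hw, ← hn, ← hsm k hk, ← hwt k hk]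
    exact dist_le e a _
  have hinv : ∀ k ∈ stabilizer G a, ∀ b : Ω, dist e a (k • b) = dist e a b := by
    intro k hk b
    apply le_antisymm (hle k hk b)
    have h1 := hle k⁻¹ ((stabilizer G a).inv_mem hk) (k • b)
    rwa [inv_smul_smul] at h1
  let F : orbitRel.Quotient (stabilizer G a) Ω → ℕ := Quotient.lift (fun b => dist e a b) (by
    rintro b c ⟨k, hk⟩
    change dist e a b = dist e a c
    have : (k : G) • c = b := hk
    rw [← this, hinv k k.2])
  have hDb : D ≤ dist e a b := by
    obtain ⟨n, hn, hw⟩ := dist_spec e a b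
    rw [← hw]
    exact hD n hn
  choose g hg using fun j : Fin (D + 1) => dist_all e a b j (by have := j.2; omega)
  have hinj : Function.Injective (fun j : Fin (D + 1) => (Quotient.mk _ (g j) : orbitRel.Quotient (stabilizer G a) Ω)) := by
    intro i j hij
    have h1 : F (Quotient.mk _ (g i)) = F (Quotient.mk _ (g j)) := congrArg F hij
    have h2 : dist e a (g i) = dist e a (g j) := h1
    rw [hg, hg] at h2
    exact Fin.ext h2
  have : Finite (orbitRel.Quotient (stabilizer G a) Ω) := Quotient.finite _
  have h1 := Nat.card_le_card_of_injective _ hinj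
  rwa [Nat.card_eq_fintype_card, Fintype.card_fin] at h1

end weight

section blocks
variable {m k : ℕ} (c : Fin m → Fin m)
  (hc : ∀ j : Fin m, Nat.card {i : Fin m // c i = j} = k ∨ Nat.card {i : Fin m // c i = j} = 0)

/-- position in the block -/
def pos (i : Fin m) : ℕ := (univ.filter (fun i' => i' < i ∧ c i' = c i)).card

theorem pos_lt {i j : Fin m} (h : c i = c j) (hij : i < j) : pos c i < pos c j := by
  rw [pos, pos]
  apply Finset.card_lt_card
  rw [Finset.ssubset_iff_of_subset]
  · refine ⟨i, ?_, ?_⟩
    · rw [Finset.mem_filter]; exact ⟨Finset.mem_univ _, hij, h⟩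
    · rw [Finset.mem_filter]; exact fun h1 => lt_irrefl _ h1.2.1
  · intro x hx
    rw [Finset.mem_filter] at hx ⊢
    exact ⟨Finset.mem_univ _, hx.2.1.trans hij, hx.2.2.trans h⟩

theorem pos_inj {i j : Fin m} (h : c i = c j) (hp : pos c i = pos c j) : i = j := by
  rcases lt_trichotomy i j with h1 | h1 | h1
  · have := pos_lt c h h1; omega
  · exact h1
  · have := pos_lt c h.symm h1; omega

include hc in
theorem card_block (i : Fin m) : (univ.filter (fun i' => c i' = c i)).card = k := by
  classical
  rcases hc (c i) with h | h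
  · rw [Nat.card_eq_fintype_card, Fintype.card_subtype] at h
    exact h
  · rw [Nat.card_eq_fintype_card, Fintype.card_eq_zero_iff] at h
    exact (h.false ⟨i, rfl⟩).elim

include hc in
theorem pos_lt_k (i : Fin m) : pos c i < k := by
  rw [← card_block c hc i, pos]
  apply Finset.card_lt_card
  rw [Finset.ssubset_iff_of_subset]
  · refine ⟨i, ?_, ?_⟩
    · rw [Finset.mem_filter]; exact ⟨Finset.mem_univ _, rfl⟩
    · rw [Finset.mem_filter]; exact fun h1 => lt_irrefl _ h1.2.1
  · intro x hx
    rw [Finset.mem_filter] at hx ⊢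
    exact ⟨Finset.mem_univ _, hx.2.2⟩

include hc in
/-- the spread assignment -/
theorem spread {T : Type*} [DecidableEq T] (t : Fin 4 → T) (ht : Function.Injective t) (j : Fin m) (s : T) :
    (univ.filter (fun i => c i = j ∧ t ⟨pos c i % 4, Nat.mod_lt _ (by norm_num)⟩ = s)).card ≤ (k + 3) / 4 := by
  classical
  rw [← Finset.card_range ((k + 3) / 4)]
  apply Finset.card_le_card_of_injOn (fun i => pos c i / 4)
  · intro i hi
    have := pos_lt_k c hc i
    simp only [Finset.coe_range, Set.mem_Iio]
    omega
  · intro i hi i' hi' h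
    simp only [Finset.coe_filter, Finset.mem_univ, true_and] at hi hi'
    have h1 : c i = c i' := hi.1.trans hi'.1.symm
    have h2 := ht (hi.2.trans hi'.2.symm)
    have h3 : pos c i % 4 = pos c i' % 4 := Fin.mk.inj h2
    have h4 : pos c i / 4 = pos c i' / 4 := h
    apply pos_inj c h1
    omega

end blocks


theorem four {T : Type*} [Group T] (hT : ∃ a b : T, a * b ≠ b * a) : ∃ t : Fin 4 → T, Function.Injective t := by
  obtain ⟨a, b, hab⟩ := hT
  have ha : a ≠ 1 := by rintro rfl; simp at hab
  have hb : b ≠ 1 := by rintro rfl; simp at hab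
  have hab' : a ≠ b := by rintro rfl; exact hab rfl
  have h1 : a * b ≠ 1 := by
    intro h
    apply hab
    have h2 : b = a⁻¹ := (mul_eq_one_iff_inv_eq.1 h).symm
    rw [h2, mul_inv_cancel, inv_mul_cancel]
  have h2 : a * b ≠ a := fun h => hb (mul_eq_left.1 h)
  have h3 : a * b ≠ b := fun h => ha (mul_eq_right.1 h)
  refine ⟨![1, a, b, a * b], ?_⟩
  intro i j h
  fin_cases i <;> fin_cases j <;> first | rfl | (exfalso; simp at h; first | exact ha h | exact hb h | exact h1 h | exact h2 h | exact h3 h | exact hab' h | exact ha h.symm | exact hb h.symm | exact h1 h.symm | exact h2 h.symm | exact h3 h.symm | exact hab' h.symm | tauto)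

open Classical in
/-- the main inequality -/
theorem key {G Ω : Type*} [Group G] [Finite G] [MulAction G Ω] [FaithfulSMul G Ω] [Finite Ω] [Nontrivial Ω]
    [IsPreprimitive G Ω] (N : Subgroup G) [N.Normal] (hN : N ≠ ⊥)
    (hmin : ∀ M : Subgroup G, M.Normal → M ≤ N → M = ⊥ ∨ M = N) (hnab : ¬ IsMulCommutative N) (a : Ω) :
    3 * cl N + 4 ≤ 3 * cl (N.subgroupOf (stabilizer G a)) + 4 * Nat.card (orbitRel.Quotient (stabilizer G a) Ω) := by
  classical
  obtain ⟨T, hTg, m, e, hTs, hT, hm, hperm, hcase⟩ := H15.ONS.ons N hN hmin hnab a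
  have : Finite (Fin m → T) := Finite.of_equiv N e.toEquiv
  have hTfin : Finite T := by
    have h0 : Nonempty (Fin m) := ⟨⟨0, hm⟩⟩
    exact Finite.of_surjective (fun x : Fin m → T => x ⟨0, hm⟩) (Function.surjective_eval (β := fun _ => T) _)
  have htr : IsPretransitive N Ω := H15.Jordan.transitive_of_normal (G := G) (X := Ω) inferInstance N hN
  have hclN : cl N ≤ m := by
    rw [cl_congr e]
    exact cl_pi_le m
  rcases hcase with ⟨K, hK, hKn⟩ | ⟨k, c, hk, hc, hcn⟩
  · -- product case
    have hx : ∀ i, ∃ t, t ∉ K i := by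
      intro i
      by_contra hcon
      push Not at hcon
      exact hK i (by rw [eq_top_iff]; intro t _; exact hcon t)
    choose x hx using hx
    have h1 := rank_ge e a hperm m ((e.symm x) • a) (by
      intro n hn
      have h2 : ((e.symm x)⁻¹ * n : N) • a = a := by
        rw [mul_smul, hn, inv_smul_smul]
      have h3 := (hKn ((e.symm x)⁻¹ * n)).1 h2
      have h4 : ∀ i, e n i ≠ 1 := by
        intro i h5
        have h6 := h3 i
        rw [map_mul, map_inv, e.apply_symm_apply, Pi.mul_apply, Pi.inv_apply, h5, mul_one] at h6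
        exact hx i ((K i).inv_mem_iff.1 h6)
      rw [wt, Finset.filter_true_of_mem (fun i _ => h4 i), Finset.card_univ, Fintype.card_fin])
    omega
  · -- diagonal case
    obtain ⟨t, ht⟩ := four hT
    let x : Fin m → T := fun i => t ⟨pos c i % 4, Nat.mod_lt _ (by norm_num)⟩
    let J : Finset (Fin m) := univ.image c
    have hmcard : m = J.card * k := by
      have h1 : (univ : Finset (Fin m)).card = ∑ j ∈ J, (univ.filter (fun i => c i = j)).card :=
        Finset.card_eq_sum_card_image c univ
      rw [Finset.card_univ, Fintype.card_fin] at h1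
      refine h1.trans (Finset.sum_const_nat ?_)
      intro j hj
      obtain ⟨i, -, rfl⟩ := Finset.mem_image.1 hj
      exact card_block c hc i
    have h1 := rank_ge e a hperm (m - J.card * ((k + 3) / 4)) ((e.symm x) • a) (by
      intro n hn
      have h2 : ((e.symm x)⁻¹ * n : N) • a = a := by
        rw [mul_smul, hn, inv_smul_smul]
      have h3 := (hcn ((e.symm x)⁻¹ * n)).1 h2
      have h4 : (univ.filter (fun i => e n i = 1)).card ≤ J.card * ((k + 3) / 4) := by
        have h5 : (univ.filter (fun i => e n i = 1)).card = ∑ j ∈ J, ((univ.filter (fun i => e n i = 1)).filter (fun i => c i = j)).card := by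
          apply Finset.card_eq_sum_card_fiberwise
          intro i _
          exact Finset.mem_coe.2 (Finset.mem_image_of_mem c (Finset.mem_univ i))
        rw [h5]
        apply Finset.sum_le_card_nsmul
        intro j hj
        obtain ⟨i0, -, rfl⟩ := Finset.mem_image.1 hj
        refine le_trans (Finset.card_le_card ?_) (spread c hc t ht (c i0) ((e ((e.symm x)⁻¹ * n) i0))⁻¹)
        intro i hi
        rw [Finset.mem_filter, Finset.mem_filter] at hi
        rw [Finset.mem_filter]
        refine ⟨Finset.mem_univ _, hi.2, ?_⟩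
        rw [← h3 i i0 hi.2, map_mul, map_inv, e.apply_symm_apply, Pi.mul_apply, Pi.inv_apply, hi.1.2, mul_one, inv_inv]
      have h6 : (univ.filter (fun i => e n i = 1)).card + wt e n = m := by
        rw [wt]
        have := Finset.card_filter_add_card_filter_not (s := (univ : Finset (Fin m))) (fun i => e n i = 1)
        rw [Finset.card_univ, Fintype.card_fin] at this
        exact this
      omega)
    -- composition length of the stabiliser
    have h2 : J.card ≤ cl (N.subgroupOf (stabilizer G a)) := by
      let E : Fin J.card ≃ J := J.equivFin.symm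
      have hrep : ∀ j : J, ∃ i, c i = j := by
        intro j
        obtain ⟨i, -, hi⟩ := Finset.mem_image.1 j.2
        exact ⟨i, hi⟩
      choose rep hrep using hrep
      let f : N.subgroupOf (stabilizer G a) →* (Fin J.card → T) :=
        { toFun := fun y q => e ⟨((y : stabilizer G a) : G), y.2⟩ (rep (E q))
          map_one' := by
            funext q
            have : (⟨(((1 : N.subgroupOf (stabilizer G a)) : stabilizer G a) : G), (1 : N.subgroupOf (stabilizer G a)).2⟩ : N) = 1 := rfl
            rw [this, map_one]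
            rfl
          map_mul' := by
            intro y z
            funext q
            have : (⟨(((y * z : N.subgroupOf (stabilizer G a)) : stabilizer G a) : G), (y * z).2⟩ : N) =
              ⟨((y : stabilizer G a) : G), y.2⟩ * ⟨((z : stabilizer G a) : G), z.2⟩ := rfl
            rw [this, map_mul]
            rfl }
      have hf : Function.Surjective f := by
        intro y
        let z : Fin m → T := fun i => y (E.symm ⟨c i, Finset.mem_image_of_mem c (Finset.mem_univ i)⟩)
        have hz : ((e.symm z : N) : G) ∈ stabilizer G a := by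
          rw [hcn]
          intro i j hij
          rw [e.apply_symm_apply]
          simp only [z, hij]
        refine ⟨⟨⟨((e.symm z : N) : G), hz⟩, (e.symm z).2⟩, ?_⟩
        funext q
        change e (e.symm z) (rep (E q)) = y q
        rw [e.apply_symm_apply]
        change y (E.symm ⟨c (rep (E q)), _⟩) = y q
        congr 1
        rw [Equiv.symm_apply_eq]
        exact Subtype.ext (hrep (E q))
      have h3 := cl_surj f hf
      exact (le_cl_pi J.card).trans h3
    have h3 : J.card * (4 * ((k + 3) / 4)) ≤ J.card * (k + 3) := Nat.mul_le_mul_left _ (Nat.mul_div_le _ _)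
    have h4 : J.card * (k + 3) = J.card * k + 3 * J.card := by ring
    have h5 : J.card * (4 * ((k + 3) / 4)) = 4 * (J.card * ((k + 3) / 4)) := by ring
    omega

end H15.RankW
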