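import Cfsg.Agent.Lib.H15.AffLen
import Cfsg.Agent.Lib.H15.RankW

set_option autoImplicit false

/-! Composition length of permutation groups: `3 c(G) ≤ 4 (n - r)`. -/

namespace H15.PermLen

open MulAction H15.CompLen
open scoped Pointwise

universe u v

section quot
variable {G : Type u} {X : Type v} [Group G] [MulAction G X]

/-- the action of the quotient by the kernel -/
@[reducible] noncomputable def qact (G : Type u) (X : Type v) [Group G] [MulAction G X] : MulAction (G ⧸ (toPermHom G X).ker) X :=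
  MulAction.compHom X (QuotientGroup.kerLift (toPermHom G X))

theorem qact_faithful : @FaithfulSMul (G ⧸ (toPermHom G X).ker) X (qact G X).toSMul := by
  let _ := qact G X
  constructor
  intro a b h
  apply QuotientGroup.kerLift_injective (toPermHom G X)
  ext x
  exact h x

theorem qact_smul (g : G) (x : X) : (qact G X).toSMul.smul (QuotientGroup.mk g) x = g • x := rfl

theorem qact_trans [IsPretransitive G X] : @IsPretransitive (G ⧸ (toPermHom G X).ker) X (qact G X).toSMul := by
  let _ := qact G X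
  constructor
  intro x y
  obtain ⟨g, hg⟩ := exists_smul_eq G x y
  exact ⟨QuotientGroup.mk g, hg⟩

end quot

/-- the statement -/
def St (m : ℕ) : Prop := ∀ (G : Type u) (Ω : Type v) [Group G] [Finite G] [MulAction G Ω] [FaithfulSMul G Ω] [Finite Ω],
  Nat.card Ω + Nat.card G ≤ m → 3 * cl G + 4 * Nat.card (orbitRel.Quotient G Ω) ≤ 4 * Nat.card Ω

theorem card_quot_one {G : Type u} {X : Type v} [Group G] [MulAction G X] [IsPretransitive G X] [Nonempty X] :
    Nat.card (orbitRel.Quotient G X) = 1 := by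
  rw [Nat.card_eq_one_iff_unique]
  constructor
  · constructor
    intro a b
    induction a using Quotient.inductionOn with
    | h a =>
    induction b using Quotient.inductionOn with
    | h b => exact Quotient.sound (exists_smul_eq G b a)
  · exact ⟨Quotient.mk _ (Classical.arbitrary X)⟩

theorem step (m : ℕ) (hm : St.{u, v} m) {G : Type u} {Ω X : Type v} [Group G] [Finite G] [MulAction G Ω] [FaithfulSMul G Ω]
    [Finite Ω] (hcard : Nat.card Ω + Nat.card G ≤ m + 1) [Finite X] [MulAction G X] [IsPretransitive G X] [Nonempty X]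
    (hX : Nat.card X < Nat.card Ω) (hK : (toPermHom G X).ker ≠ ⊤) :
    3 * cl G + 4 * Nat.card (orbitRel.Quotient (toPermHom G X).ker Ω) + 4 ≤ 4 * Nat.card Ω + 4 * Nat.card X := by
  have h1 := le_add (QuotientGroup.mk' (toPermHom G X).ker) (QuotientGroup.mk'_surjective _)
  rw [QuotientGroup.ker_mk'] at h1
  have h2 := (toPermHom G X).ker.card_mul_index
  have h3 : (toPermHom G X).ker.index ≠ 1 := fun h => hK (Subgroup.index_eq_one.1 h)
  have h4 := (toPermHom G X).ker.index_ne_zero_of_finite
  have h5 : 0 < Nat.card (toPermHom G X).ker := Nat.card_pos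
  have h6 : Nat.card (toPermHom G X).ker < Nat.card G := by nlinarith [Nat.pos_of_ne_zero h4, (show 2 ≤ (toPermHom G X).ker.index by omega)]
  have h7 := hm (toPermHom G X).ker Ω (by omega)
  have h8 : 3 * cl (G ⧸ (toPermHom G X).ker) + 4 ≤ 4 * Nat.card X := by
    let _ := qact G X
    have : FaithfulSMul (G ⧸ (toPermHom G X).ker) X := qact_faithful
    have : IsPretransitive (G ⧸ (toPermHom G X).ker) X := qact_trans
    have h9 : Nat.card (G ⧸ (toPermHom G X).ker) ≤ Nat.card G := Nat.card_le_card_of_surjective _ (QuotientGroup.mk'_surjective _)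
    have h10 := hm (G ⧸ (toPermHom G X).ker) X (by omega)
    rw [card_quot_one] at h10
    exact h10
  omega

theorem intrans (m : ℕ) (hm : St.{u, v} m) {G : Type u} {Ω : Type v} [Group G] [Finite G] [MulAction G Ω] [FaithfulSMul G Ω]
    [Finite Ω] (hcard : Nat.card Ω + Nat.card G ≤ m + 1) [Nontrivial G] (ht : ¬ IsPretransitive G Ω) :
    3 * cl G + 4 * Nat.card (orbitRel.Quotient G Ω) ≤ 4 * Nat.card Ω := by
  classical
  obtain ⟨g, hg⟩ := exists_ne (1 : G)
  obtain ⟨b, hb⟩ : ∃ b : Ω, g • b ≠ b := by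
    by_contra hcon
    push Not at hcon
    apply hg
    apply FaithfulSMul.eq_of_smul_eq_smul (α := Ω)
    intro x
    rw [hcon, one_smul]
  have hX : Nat.card (orbit G b) < Nat.card Ω := by
    rw [Nat.card_coe_set_eq, ← Set.ncard_univ]
    apply Set.ncard_lt_ncard _ (Set.toFinite _)
    rw [Set.ssubset_univ_iff]
    intro h
    exact ht (isPretransitive_iff_orbit_eq_univ b |>.2 h)
  have hK : (toPermHom G (orbit G b)).ker ≠ ⊤ := by
    intro h
    have h1 : g ∈ (toPermHom G (orbit G b)).ker := by rw [h]; trivial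
    rw [MonoidHom.mem_ker] at h1
    have h2 := congrArg (fun f : Equiv.Perm (orbit G b) => (f ⟨b, mem_orbit_self b⟩ : Ω)) h1
    exact hb h2
  have : Nonempty (orbit G b) := ⟨⟨b, mem_orbit_self b⟩⟩
  have h1 := step m hm (X := orbit G b) hcard hX hK
  set K := (toPermHom G (orbit G b)).ker with hKdef
  have hKfix : ∀ k ∈ K, ∀ x ∈ orbit G b, k • x = x := by
    intro k hk x hx
    rw [hKdef, MonoidHom.mem_ker] at hk
    exact congrArg (fun f : Equiv.Perm (orbit G b) => (f ⟨x, hx⟩ : Ω)) hk
  -- counting orbits of K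
  let qb : orbitRel.Quotient G Ω := Quotient.mk _ b
  have hq : ∀ x y : Ω, (Quotient.mk _ x : orbitRel.Quotient G Ω) = Quotient.mk _ y ↔ x ∈ orbit G y := fun x y => Quotient.eq
  have hqK : ∀ x y : Ω, (Quotient.mk _ x : orbitRel.Quotient K Ω) = Quotient.mk _ y ↔ x ∈ orbit K y := fun x y => Quotient.eq
  have hGK : ∀ x y : Ω, x ∈ orbit K y → x ∈ orbit G y := by
    rintro x y ⟨k, hk⟩
    exact ⟨k, hk⟩
  let f : (orbit G b) ⊕ {q : orbitRel.Quotient G Ω // q ≠ qb} → orbitRel.Quotient K Ω :=
    Sum.elim (fun x => Quotient.mk _ x.1) (fun q => Quotient.mk _ q.1.out)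
  have hf : Function.Injective f := by
    rintro (x | q) (y | q') h
    · have h2 := (hqK _ _).1 h
      obtain ⟨k, hk⟩ := h2
      have h3 : (k : G) • (y : Ω) = x := hk
      rw [hKfix k k.2 y y.2] at h3
      rw [Subtype.ext h3]
    · exfalso
      have h2 := hGK _ _ ((hqK _ _).1 h)
      apply q'.2
      have h3 : (Quotient.mk _ q'.1.out : orbitRel.Quotient G Ω) = q'.1 := Quotient.out_eq _
      rw [← h3, hq]
      have h4 : (x : Ω) ∈ orbit G b := x.2
      rw [← orbit_eq_iff] at h2 h4 ⊢
      rw [← h2, h4]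
    · exfalso
      have h2 := hGK _ _ ((hqK _ _).1 h)
      apply q.2
      have h3 : (Quotient.mk _ q.1.out : orbitRel.Quotient G Ω) = q.1 := Quotient.out_eq _
      rw [← h3, hq]
      have h4 : (y : Ω) ∈ orbit G b := y.2
      rw [← orbit_eq_iff] at h2 h4 ⊢
      rw [h2, h4]
    · have h2 := hGK _ _ ((hqK _ _).1 h)
      rw [← hq, Quotient.out_eq, Quotient.out_eq] at h2
      rw [Subtype.ext h2]
  have : Finite (orbitRel.Quotient K Ω) := Quotient.finite _
  have : Finite (orbitRel.Quotient G Ω) := Quotient.finite _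
  have h2 := Nat.card_le_card_of_injective f hf
  rw [Nat.card_sum] at h2
  have h3 : Nat.card {q : orbitRel.Quotient G Ω // q ≠ qb} + 1 = Nat.card (orbitRel.Quotient G Ω) := by
    have := Fintype.ofFinite (orbitRel.Quotient G Ω)
    rw [Nat.card_eq_fintype_card, Nat.card_eq_fintype_card, Fintype.card_subtype_compl, Fintype.card_subtype_eq]
    have : 0 < Fintype.card (orbitRel.Quotient G Ω) := Fintype.card_pos_iff.2 ⟨qb⟩
    omega
  omega

theorem imprim (m : ℕ) (hm : St.{u, v} m) {G : Type u} {Ω : Type v} [Group G] [Finite G] [MulAction G Ω] [FaithfulSMul G Ω]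
    [Finite Ω] (hcard : Nat.card Ω + Nat.card G ≤ m + 1) [IsPretransitive G Ω] (B : Set Ω) (hB : IsBlock G B)
    (hB2 : B.Nontrivial) (hBu : B ≠ Set.univ) : 3 * cl G + 4 ≤ 4 * Nat.card Ω := by
  classical
  let X := orbit G B
  have hblk : ∀ C D : X, (C.1 ∩ D.1).Nonempty → C = D := by
    rintro ⟨_, g, rfl⟩ ⟨_, h, rfl⟩ hne
    apply Subtype.ext
    rcases hB.smul_eq_smul_or_disjoint g h with h1 | h1
    · exact h1
    · exact absurd hne (Set.not_nonempty_iff_eq_empty.2 h1.inter_eq)
  have hne : ∀ C : X, C.1.Nonempty := by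
    rintro ⟨_, g, rfl⟩
    exact hB2.nonempty.smul_set
  choose y hy using hne
  have hyinj : Function.Injective y := by
    intro C D h
    apply hblk
    exact ⟨y C, hy C, by rw [h]; exact hy D⟩
  have hX : Nat.card X < Nat.card Ω := by
    have := Fintype.ofFinite X
    have := Fintype.ofFinite Ω
    rw [Nat.card_eq_fintype_card, Nat.card_eq_fintype_card]
    let B' : X := ⟨B, mem_orbit_self B⟩
    obtain ⟨z, hz, hzy⟩ := hB2.exists_ne (y B')
    apply Fintype.card_lt_of_injective_of_notMem y hyinj (b := z)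
    rintro ⟨C, hC⟩
    have h1 : C = B' := hblk C B' ⟨z, by rw [← hC]; exact hy C, hz⟩
    rw [h1] at hC
    exact hzy hC.symm
  have hK : (toPermHom G X).ker ≠ ⊤ := by
    intro h
    apply hBu
    rw [Set.eq_univ_iff_forall]
    intro z
    obtain ⟨b, hb⟩ := hB2.nonempty
    obtain ⟨g, rfl⟩ := exists_smul_eq G b z
    have h1 : g ∈ (toPermHom G X).ker := by rw [h]; trivial
    rw [MonoidHom.mem_ker] at h1
    have h2 : g • B = B := congrArg (fun f : Equiv.Perm X => (f ⟨B, mem_orbit_self B⟩ : X).1) h1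
    rw [← h2]
    exact Set.smul_mem_smul_set hb
  have : Nonempty X := ⟨⟨B, mem_orbit_self B⟩⟩
  have h1 := step m hm (X := X) hcard hX hK
  set K := (toPermHom G X).ker with hKdef
  have hKfix : ∀ k ∈ K, ∀ C : X, k • C.1 = C.1 := by
    intro k hk C
    rw [hKdef, MonoidHom.mem_ker] at hk
    exact congrArg (fun f : Equiv.Perm X => (f C : X).1) hk
  let f : X → orbitRel.Quotient K Ω := fun C => Quotient.mk _ (y C)
  have hf : Function.Injective f := by
    intro C D h
    have h2 : y C ∈ orbit K (y D) := Quotient.eq.1 h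
    obtain ⟨k, hk⟩ := h2
    have h3 : (k : G) • y D = y C := hk
    apply hblk
    refine ⟨y C, hy C, ?_⟩
    rw [← h3, ← hKfix k k.2 D]
    exact Set.smul_mem_smul_set (hy D)
  have : Finite (orbitRel.Quotient K Ω) := Quotient.finite _
  have h2 := Nat.card_le_card_of_injective f hf
  omega

theorem prim (m : ℕ) (hm : St.{u, v} m) {G : Type u} {Ω : Type v} [Group G] [Finite G] [MulAction G Ω] [FaithfulSMul G Ω]
    [Finite Ω] [Nontrivial Ω] (hcard : Nat.card Ω + Nat.card G ≤ m + 1) [IsPreprimitive G Ω] :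
    3 * cl G + 4 ≤ 4 * Nat.card Ω := by
  classical
  by_cases hF : Cfsg.fittingSubgroup G = ⊥
  swap
  · exact H15.AffLen.affine hF
  have : Nontrivial G := by
    by_contra h
    rw [not_nontrivial_iff_subsingleton] at h
    obtain ⟨x, y, hxy⟩ := exists_pair_ne Ω
    obtain ⟨g, hg⟩ := exists_smul_eq G x y
    rw [Subsingleton.elim g 1, one_smul] at hg
    exact hxy hg
  -- a minimal normal subgroup
  obtain ⟨N, hN, hNb, hmin⟩ : ∃ N : Subgroup G, N.Normal ∧ N ≠ ⊥ ∧ ∀ M : Subgroup G, M.Normal → M ≤ N → M = ⊥ ∨ M = N := by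
    obtain ⟨N, ⟨hN, hNb⟩, hmin⟩ := Set.exists_min_image {N : Subgroup G | N.Normal ∧ N ≠ ⊥} (fun N => Nat.card N)
      (Set.toFinite _) ⟨⊤, inferInstance, top_ne_bot⟩
    refine ⟨N, hN, hNb, ?_⟩
    intro M hM hMN
    by_cases h : M = ⊥
    · left; exact h
    · right
      exact Subgroup.eq_of_le_of_card_ge hMN (hmin M ⟨hM, h⟩)
  have hnab : ¬ IsMulCommutative N := by
    intro h
    apply hNb
    rw [eq_bot_iff, ← hF]
    have hnil : Group.IsNilpotent N := by
      have hc : ∀ a b : N, a * b = b * a := fun a b => h.is_comm.comm a b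
      let _ : CommGroup N := { (inferInstance : Group N) with mul_comm := hc }
      infer_instance
    exact le_sSup ⟨hN, hnil⟩
  obtain ⟨a⟩ : Nonempty Ω := inferInstance
  have h1 := H15.RankW.key N hNb hmin hnab a
  have h2 := le_add (QuotientGroup.mk' N) (QuotientGroup.mk'_surjective N)
  rw [QuotientGroup.ker_mk'] at h2
  let f : stabilizer G a →* G ⧸ N := (QuotientGroup.mk' N).comp (stabilizer G a).subtype
  have htr := H15.Jordan.transitive_of_normal (G := G) (X := Ω) inferInstance N hNb
  have hf : Function.Surjective f := by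
    intro q
    obtain ⟨g, rfl⟩ := QuotientGroup.mk'_surjective N q
    obtain ⟨n, hn⟩ := exists_smul_eq N (g • a) a
    have hn' : (n : G) • g • a = a := hn
    refine ⟨⟨n * g, by rw [mem_stabilizer_iff, mul_smul]; exact hn'⟩, ?_⟩
    change QuotientGroup.mk' N (n * g) = QuotientGroup.mk' N g
    rw [map_mul, show QuotientGroup.mk' N (n : G) = 1 from (QuotientGroup.eq_one_iff _).2 n.2, one_mul]
  have h3 := add_le f hf
  have hker : f.ker = N.subgroupOf (stabilizer G a) := by
    ext x
    rw [MonoidHom.mem_ker, Subgroup.mem_subgroupOf]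
    exact QuotientGroup.eq_one_iff _
  rw [hker] at h3
  have h4 : Nat.card (stabilizer G a) < Nat.card G := by
    have h5 := index_stabilizer_of_transitive G a
    have h6 := (stabilizer G a).card_mul_index
    rw [h5] at h6
    have h7 : 1 < Nat.card Ω := Finite.one_lt_card
    have h8 : 0 < Nat.card (stabilizer G a) := Nat.card_pos
    nlinarith
  have h5 := hm (stabilizer G a) Ω (by omega)
  omega

theorem main (m : ℕ) : St.{u, v} m := by
  induction m with
  | zero =>
    intro G Ω _ _ _ _ _ h
    have : 0 < Nat.card G := Nat.card_pos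
    omega
  | succ m ih =>
    intro G Ω _ _ _ _ _ h
    rcases subsingleton_or_nontrivial G with hG | hG
    · rw [cl_sub hG]
      have h1 : Nat.card (orbitRel.Quotient G Ω) ≤ Nat.card Ω :=
        Nat.card_le_card_of_surjective _ Quotient.mk_surjective
      omega
    by_cases ht : IsPretransitive G Ω
    swap
    · exact intrans m ih h ht
    have hnt : Nontrivial Ω := by
      by_contra hcon
      rw [not_nontrivial_iff_subsingleton] at hcon
      obtain ⟨g, hg⟩ := exists_ne (1 : G)
      apply hg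
      apply FaithfulSMul.eq_of_smul_eq_smul (α := Ω)
      intro x
      exact Subsingleton.elim _ _
    rw [card_quot_one]
    by_cases hp : IsPreprimitive G Ω
    · exact prim m ih h
    · have h1 : ∃ B : Set Ω, IsBlock G B ∧ ¬ IsTrivialBlock B := by
        by_contra hcon
        push Not at hcon
        exact hp ⟨fun {B} hB => hcon B hB⟩
      obtain ⟨B, hB, hBt⟩ := h1
      rw [IsTrivialBlock, not_or, Set.not_subsingleton_iff] at hBt
      exact imprim m ih h B hB hBt.1 hBt.2

theorem perm_len {G : Type u} {Ω : Type v} [Group G] [Finite G] [MulAction G Ω] [FaithfulSMul G Ω] [Finite Ω] :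
    3 * cl G + 4 * Nat.card (orbitRel.Quotient G Ω) ≤ 4 * Nat.card Ω := main _ G Ω le_rfl

end H15.PermLen
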