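import Cfsg.Agent.Lib.H26.Bender
import Cfsg.Agent.Lib.H26.LocalFitting
import Cfsg.Agent.Lib.H36.SubnormalPerfect
import Cfsg.Agent.Lib.H52.FStar

/-!
Subnormal subgroups `U` of `H` and the cores and components of `C_H(U)`.
-/

set_option autoImplicit false

open Cfsg Subgroup H26.Basic H26.Components H26.PxQ H26.GenFitting H26.LocalFitting

namespace H15.TW

variable {G : Type*} [Group G]

/-- `U` subnormal and `F ≤ [F, U]` gives `F ≤ U` -/
theorem le_of_le_commutator {U F : Subgroup G} (hU : U.IsSubnormal) (h : F ≤ ⁅F, U⁆) : F ≤ U := by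
  induction hU with
  | top => exact le_top
  | step H K hHK _ hN ih =>
    have h1 : F ≤ K := ih (h.trans (Subgroup.commutator_mono le_rfl hHK))
    have h2 : ⁅K, H⁆ ≤ H := by
      apply Subgroup.le_normalizer_iff_commutator_le_right.mp
      exact Subgroup.normal_subgroupOf_iff_le_normalizer hHK |>.mp hN
    exact h.trans ((Subgroup.commutator_mono h1 le_rfl).trans h2)

/-- the core argument -/
theorem core [Finite G] {U L F0 : Subgroup G} (hU : U.IsSubnormal) (hUL : ⁅U, L⁆ = ⊥)
    (hC : ⁅F0 ⊓ Subgroup.centralizer (U : Set G), L⁆ = ⊥)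
    (hL : ∀ M : Subgroup G, M ≤ F0 → L ≤ Subgroup.normalizer (M : Set G) → ⁅⁅M, L⁆, L⁆ = ⊥ → ⁅M, L⁆ = ⊥) (n : ℕ) :
    ∀ F : Subgroup G, Nat.card F ≤ n → F ≤ F0 → U ≤ Subgroup.normalizer (F : Set G) →
      L ≤ Subgroup.normalizer (F : Set G) → ⁅F, L⁆ = ⊥ := by
  induction n with
  | zero =>
    intro F hF
    have := Nat.card_pos (α := F)
    omega
  | succ n ih =>
    intro F hF hF0 hUF hLF
    by_cases h : F ≤ ⁅F, U⁆
    · have h1 := le_of_le_commutator hU h
      exact le_bot_iff.1 ((Subgroup.commutator_mono h1 le_rfl).trans hUL.le)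
    · have h1 : ⁅F, U⁆ ≤ F := Subgroup.le_normalizer_iff_commutator_le_left.mp hUF
      have hLU : L ≤ Subgroup.normalizer (U : Set G) := by
        apply le_normalizer_of_commutator_eq_bot
        rw [Subgroup.commutator_comm]
        exact hUL
      have h2 : Nat.card (⁅F, U⁆ : Subgroup G) ≤ n := by
        have h3 : ⁅F, U⁆ < F := lt_of_le_of_ne h1 (fun h4 => h h4.ge)
        have h4 : Nat.card (⁅F, U⁆ : Subgroup G) < Nat.card F := by
          by_contra h5
          exact h3.ne (Subgroup.eq_of_le_of_card_ge h1 (not_lt.1 h5))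
        omega
      have h3 : ⁅⁅F, U⁆, L⁆ = ⊥ := ih _ h2 (h1.trans hF0)
        (le_normalizer_commutator hUF Subgroup.le_normalizer) (le_normalizer_commutator hLF hLU)
      have h4 : ⁅⁅L, F⁆, U⁆ = ⊥ := by
        apply Subgroup.commutator_commutator_eq_bot_of_rotate h3
        rw [hUL, Subgroup.commutator_bot_left]
      have h5 : ⁅F, L⁆ ≤ F0 ⊓ Subgroup.centralizer (U : Set G) := by
        refine le_inf ?_ ?_
        · exact (Subgroup.le_normalizer_iff_commutator_le_left.mp hLF).trans hF0
        · rw [← Subgroup.commutator_eq_bot_iff_le_centralizer, Subgroup.commutator_comm F L]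
          exact h4
      exact hL F hF0 hLF (le_bot_iff.1 ((Subgroup.commutator_mono h5 le_rfl).trans hC.le))

/-- `U` subnormal, `O_p(G) = 1`, `X` a `p`-subgroup normal in `C_G(U)`: then `X = 1` -/
theorem eq_bot_of_core [Finite G] {p : ℕ} [hp : Fact p.Prime] (hO : pCore p G = ⊥) {U X : Subgroup G}
    (hU : U.IsSubnormal) (hX : IsPGroup p X) (hUX : ⁅U, X⁆ = ⊥)
    (hCX : Subgroup.centralizer (U : Set G) ≤ Subgroup.normalizer (X : Set G)) : X = ⊥ := by
  have hXs : Group.IsSolvable X := by
    have := hX.isNilpotent
    infer_instance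
  apply H52.FStar.eq_bot_of_centralizes hO hX
  rw [← Subgroup.commutator_eq_bot_iff_le_centralizer, Subgroup.commutator_comm, generalizedFittingSubgroup]
  apply commutator_sup_left_eq_bot
  · apply commutator_sSup_left_eq_bot
    intro K hK
    rcases le_or_commutator_eq_bot hK hU with h | h
    · exact le_bot_iff.1 ((Subgroup.commutator_mono h le_rfl).trans hUX.le)
    · apply commutator_eq_bot_of_isSolvable hK hXs
      refine le_trans ?_ hCX
      rw [← Subgroup.commutator_eq_bot_iff_le_centralizer]
      exact h
  · rw [H1.Cores.fittingSubgroup_eq_iSup_pCore]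
    apply commutator_iSup_left_eq_bot
    intro q
    have hq : Fact (q : ℕ).Prime := ⟨q.2⟩
    by_cases hqp : (q : ℕ) = p
    · rw [hqp, hO, Subgroup.commutator_bot_left]
    · have hcop : ∀ x ∈ X, (orderOf x).Coprime (q : ℕ) := by
        intro x hx
        obtain ⟨k, hk⟩ := (IsPGroup.iff_orderOf.mp hX) ⟨x, hx⟩
        rw [Subgroup.orderOf_mk] at hk
        rw [hk]
        exact Nat.Coprime.pow_left k ((Nat.coprime_primes hp.out q.2).mpr (Ne.symm hqp))
      have hXF : X ≤ Subgroup.normalizer ((pCore (q : ℕ) G : Subgroup G) : Set G) := by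
        rw [Subgroup.normalizer_eq_top]
        exact le_top
      refine core (F0 := pCore (q : ℕ) G) hU hUX ?_ ?_ _ (pCore (q : ℕ) G) le_rfl le_rfl ?_ hXF
      · -- `[C_F(U), X] ≤ F ∩ X = 1`
        have h1 : ⁅pCore (q : ℕ) G ⊓ Subgroup.centralizer (U : Set G), X⁆ ≤ pCore (q : ℕ) G ⊓ X := by
          refine le_inf ?_ ?_
          · exact (Subgroup.commutator_mono inf_le_left le_rfl).trans
              (Subgroup.le_normalizer_iff_commutator_le_left.mp hXF)
          · apply Subgroup.le_normalizer_iff_commutator_le_right.mp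
            exact inf_le_right.trans hCX
        have hdisj : Disjoint (pCore (q : ℕ) G) X :=
          IsPGroup.disjoint_of_ne _ _ hqp _ _ (H1.Cores.isPGroup_pCore (q : ℕ)) hX
        exact le_bot_iff.1 (h1.trans (disjoint_iff.1 hdisj).le)
      · intro M hM hXM h
        exact commutator_eq_bot_of_commutator_commutator ((H1.Cores.isPGroup_pCore (q : ℕ)).to_le hM) hcop hXM h
      · rw [Subgroup.normalizer_eq_top]
        exact le_top

/-- `U` subnormal: a component of `C_G(U)` is a component of `G` -/
theorem component_of_centralizer [Finite G] {U L : Subgroup G} (hU : U.IsSubnormal)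
    (hL : L ≤ Subgroup.centralizer (U : Set G))
    (hLc : IsComponent (L.subgroupOf (Subgroup.centralizer (U : Set G)))) : IsComponent L := by
  by_contra hne
  have hLp : ⁅L, L⁆ = L := by
    have h1 := isPerfect hLc
    have h2 := congrArg (Subgroup.map (Subgroup.centralizer (U : Set G)).subtype) h1
    rw [Subgroup.map_commutator, Subgroup.map_subgroupOf_eq_of_le hL] at h2
    exact h2
  have hUL : ⁅U, L⁆ = ⊥ := by
    rw [Subgroup.commutator_comm, Subgroup.commutator_eq_bot_iff_le_centralizer]
    exact hL
  have h1 : ⁅generalizedFittingSubgroup G, L⁆ = ⊥ := by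
    rw [generalizedFittingSubgroup]
    apply commutator_sup_left_eq_bot
    · apply commutator_sSup_left_eq_bot
      intro K hK
      rcases le_or_commutator_eq_bot hK hU with h | h
      · exact le_bot_iff.1 ((Subgroup.commutator_mono h le_rfl).trans hUL.le)
      · have hKC : K ≤ Subgroup.centralizer (U : Set G) := by
          rw [← Subgroup.commutator_eq_bot_iff_le_centralizer]
          exact h
        have hKc := subgroupOf_of_le hK hKC
        rcases eq_or_commutator_eq_bot hKc hLc with h2 | h2
        · exfalso
          apply hne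
          have h3 := congrArg (Subgroup.map (Subgroup.centralizer (U : Set G)).subtype) h2
          rw [Subgroup.map_subgroupOf_eq_of_le hL, Subgroup.map_subgroupOf_eq_of_le hKC] at h3
          rw [← h3]
          exact hK
        · exact (subgroupOf_commutator_eq_bot_iff hKC hL).1 h2
    · have hFn : Group.IsNilpotent (fittingSubgroup G) := H1.Cores.isNilpotent_fittingSubgroup
      have hFnorm : (fittingSubgroup G).Normal := H1.Cores.fittingSubgroup_normal
      refine core (F0 := fittingSubgroup G) hU hUL ?_ ?_ _ (fittingSubgroup G) le_rfl le_rfl ?_ ?_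
      · -- `C_F(U)` is a solvable normal subgroup of `C_G(U)`
        set C := Subgroup.centralizer (U : Set G) with hCdef
        have h2 : Group.IsSolvable ((fittingSubgroup G ⊓ C).subgroupOf C) := by
          have h3 : Group.IsSolvable (fittingSubgroup G) := inferInstance
          have h4 : Group.IsSolvable (fittingSubgroup G ⊓ C : Subgroup G) :=
            solvable_of_solvable_injective (Subgroup.inclusion_injective (inf_le_left : fittingSubgroup G ⊓ C ≤ fittingSubgroup G))
          exact solvable_of_solvable_injective (f := (Subgroup.subgroupOfEquivOfLe (inf_le_right : fittingSubgroup G ⊓ C ≤ C)).toMonoidHom) (Subgroup.subgroupOfEquivOfLe (inf_le_right : fittingSubgroup G ⊓ C ≤ C)).injective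
        have h3 : ((fittingSubgroup G ⊓ C).subgroupOf C).Normal := by
          rw [Subgroup.inf_subgroupOf_right]
          infer_instance
        have h4 := commutator_eq_bot_of_isSolvable_subnormal hLc h2 h3.isSubnormal
        rw [Subgroup.commutator_comm]
        exact (subgroupOf_commutator_eq_bot_iff hL inf_le_right).1 h4
      · intro M _ _ h
        exact commutator_eq_bot_of_perfect hLp h
      · rw [Subgroup.normalizer_eq_top]
        exact le_top
      · rw [Subgroup.normalizer_eq_top]
        exact le_top
  have h2 : L ≤ generalizedFittingSubgroup G := by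
    refine le_trans ?_ centralizer_gFitting_le
    rw [← Subgroup.commutator_eq_bot_iff_le_centralizer, Subgroup.commutator_comm]
    exact h1
  have h3 : ⁅L, L⁆ = ⊥ := le_bot_iff.1 ((Subgroup.commutator_mono h2 le_rfl).trans h1.le)
  rw [hLp] at h3
  apply ne_bot hLc
  rw [h3, Subgroup.bot_subgroupOf]

end H15.TW
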