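import Cfsg.Agent.Lib.H15.TWMain

/-!
The Thompson-Wielandt theorem: final forms.
-/

set_option autoImplicit false

open Cfsg Subgroup H26.Basic H26.Components H26.PxQ H26.GenFitting H26.LocalFitting

namespace H15.TW

variable {G : Type*} [Group G]

theorem Prim.conj {X : Subgroup G} (hX : Prim X) (g : G) : Prim (X.map (MulAut.conj g).toMonoidHom) := by
  intro N hN hNb hXN
  have key : ∀ {S T : Subgroup G} (k : G), S ≤ T.map (MulAut.conj k).toMonoidHom ↔
      S.map (MulAut.conj k⁻¹).toMonoidHom ≤ T := by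
    intro S T k
    constructor
    · rintro h _ ⟨s, hs, rfl⟩
      obtain ⟨t, ht, hts⟩ := h hs
      have h1 : s = k * t * k⁻¹ := hts.symm
      change k⁻¹ * s * k⁻¹⁻¹ ∈ T
      rw [h1]
      have h2 : k⁻¹ * (k * t * k⁻¹) * k⁻¹⁻¹ = t := by group
      rw [h2]
      exact ht
    · intro h s hs
      refine ⟨k⁻¹ * s * k, ?_, ?_⟩
      · have h1 := h ⟨s, hs, rfl⟩
        change k⁻¹ * s * k⁻¹⁻¹ ∈ T at h1
        rw [inv_inv] at h1
        exact h1
      · change k * (k⁻¹ * s * k) * k⁻¹ = s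
        group
  have hnorm : ∀ (S : Subgroup G) (k : G), Subgroup.normalizer ((S.map (MulAut.conj k).toMonoidHom : Subgroup G) : Set G)
      = (Subgroup.normalizer (S : Set G)).map (MulAut.conj k).toMonoidHom := by
    intro S k
    exact (Subgroup.map_equiv_normalizer_eq S (MulAut.conj k)).symm
  rw [key]
  have h1 : (Subgroup.normalizer (N : Set G)).map (MulAut.conj g⁻¹).toMonoidHom =
      Subgroup.normalizer ((N.map (MulAut.conj g⁻¹).toMonoidHom : Subgroup G) : Set G) := (hnorm N g⁻¹).symm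
  rw [h1]
  apply hX
  · rw [← key]; exact hN
  · rw [Ne, Subgroup.map_eq_bot_iff_of_injective _ (MulAut.conj g⁻¹).injective]
    exact hNb
  · rw [hnorm]
    have h2 := Subgroup.map_mono (f := (MulAut.conj g⁻¹).toMonoidHom) hXN
    refine le_trans ?_ h2
    intro x hx
    refine ⟨g * x * g⁻¹, ⟨x, hx, rfl⟩, ?_⟩
    change g⁻¹ * (g * x * g⁻¹) * g⁻¹⁻¹ = x
    group

variable [Finite G]

theorem card_pc {X Y : Subgroup G} (e : X ≃* Y) (r : ℕ) : Nat.card (pc r X) = Nat.card (pc r Y) := by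
  have h1 : Nat.card (pc r X) = Nat.card (pCore r X) :=
    (Nat.card_congr ((pCore r X).equivMapOfInjective _ X.subtype_injective).toEquiv).symm
  have h2 : Nat.card (pc r Y) = Nat.card (pCore r Y) :=
    (Nat.card_congr ((pCore r Y).equivMapOfInjective _ Y.subtype_injective).toEquiv).symm
  rw [h1, h2, ← H1.Cores.map_equiv_pCore r e]
  exact Nat.card_congr ((pCore r X).equivMapOfInjective _ e.injective).toEquiv

theorem main {X Y : Subgroup G} (hX : Prim X) (hY : Prim Y) (hne : X ≠ Y) (e : X ≃* Y) {A B : Subgroup G}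
    (hA : NS A X Y) (hB : NS B Y X) : ∃ r : ℕ, r.Prime ∧ IsPGroup r A ∧ IsPGroup r B ∧
      generalizedFittingSubgroup X = pCore r X ∧ generalizedFittingSubgroup Y = pCore r Y := by
  have hE := layer_eq_bot hX hY hne hA hB
  have hXnt : Nontrivial X := by
    rw [Subgroup.nontrivial_iff_ne_bot]
    intro h
    apply hA.ne
    rw [eq_bot_iff, ← h]
    exact hA.leX
  have hF : generalizedFittingSubgroup X = fittingSubgroup X := by
    rw [generalizedFittingSubgroup, hE, bot_sup_eq]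
  have hFne : fittingSubgroup X ≠ ⊥ := by
    intro h
    have h1 := centralizer_gFitting_le (G := X)
    rw [hF, h] at h1
    have h2 : (⊤ : Subgroup X) ≤ ⊥ := by
      refine le_trans ?_ h1
      intro x _
      rw [Subgroup.mem_centralizer_iff]
      intro y hy
      rw [SetLike.mem_coe, Subgroup.mem_bot] at hy
      rw [hy, one_mul, mul_one]
    exact top_ne_bot (le_bot_iff.1 h2)
  obtain ⟨q, hq⟩ : ∃ q : Nat.Primes, pCore (q : ℕ) X ≠ ⊥ := by
    by_contra hcon
    push Not at hcon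
    apply hFne
    rw [H1.Cores.fittingSubgroup_eq_iSup_pCore, eq_bot_iff]
    exact iSup_le fun q => (hcon q).le
  have hpc : ∀ (t : ℕ) {Z : Subgroup G}, pCore t Z ≠ ⊥ → pc t Z ≠ ⊥ := by
    intro t Z ht
    rw [Ne, pc, Subgroup.map_eq_bot_iff_of_injective _ Z.subtype_injective]
    exact ht
  have hqf : Fact (q : ℕ).Prime := ⟨q.2⟩
  have hAq := isPGroup_of hX hY hne (card_pc e (q : ℕ)) (hpc _ hq) hA
  have hqY : pCore (q : ℕ) Y ≠ ⊥ := by
    rw [← H1.Cores.map_equiv_pCore (q : ℕ) e, Ne, Subgroup.map_eq_bot_iff_of_injective _ e.injective]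
    exact hq
  have hBq := isPGroup_of hY hX (Ne.symm hne) (card_pc e (q : ℕ)).symm (hpc _ hqY) hB
  have hall : ∀ t : Nat.Primes, pCore (t : ℕ) X ≤ pCore (q : ℕ) X := by
    intro t
    have htf : Fact (t : ℕ).Prime := ⟨t.2⟩
    by_cases ht : pCore (t : ℕ) X = ⊥
    · rw [ht]; exact bot_le
    · by_cases htq : (t : ℕ) = q
      · rw [htq]
      · exfalso
        have hAt := isPGroup_of hX hY hne (card_pc e (t : ℕ)) (hpc _ ht) hA
        have hdisj := IsPGroup.disjoint_of_ne _ _ htq _ _ hAt hAq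
        exact hA.ne (disjoint_self.1 hdisj)
  have hgX : generalizedFittingSubgroup X = pCore (q : ℕ) X := by
    rw [hF]
    apply le_antisymm
    · rw [H1.Cores.fittingSubgroup_eq_iSup_pCore]
      exact iSup_le hall
    · exact H1.Cores.pCore_le_fittingSubgroup (q : ℕ)
  refine ⟨q, q.2, hAq, hBq, hgX, ?_⟩
  rw [← map_gFitting_mulEquiv e, hgX, H1.Cores.map_equiv_pCore (q : ℕ) e]

/-- the core of `Z` in `M` -/
def coreIn (M Z : Subgroup G) : Subgroup G := (Z.subgroupOf M).normalCore.map M.subtype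

omit [Finite G] in
theorem coreIn_leM (M Z : Subgroup G) : coreIn M Z ≤ M := Subgroup.map_subtype_le _

omit [Finite G] in
theorem coreIn_le (M Z : Subgroup G) : coreIn M Z ≤ Z := by
  rintro _ ⟨x, hx, rfl⟩
  exact Subgroup.mem_subgroupOf.1 (Subgroup.normalCore_le _ hx)

omit [Finite G] in
theorem coreIn_norm (M Z : Subgroup G) : M ≤ Subgroup.normalizer ((coreIn M Z : Subgroup G) : Set G) := by
  intro m hm
  rw [Subgroup.mem_normalizer_iff]
  intro x
  constructor
  · rintro ⟨y, hy, rfl⟩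
    exact ⟨⟨m, hm⟩ * y * ⟨m, hm⟩⁻¹, (Subgroup.normalCore_normal _).conj_mem y hy _, rfl⟩
  · rintro ⟨y, hy, hyx⟩
    have h1 : x = m⁻¹ * (y : G) * m := by
      have h2 : (y : G) = m * x * m⁻¹ := hyx
      rw [h2]; group
    rw [h1]
    refine ⟨⟨m, hm⟩⁻¹ * y * ⟨m, hm⟩⁻¹⁻¹, (Subgroup.normalCore_normal _).conj_mem y hy _, ?_⟩
    change m⁻¹ * (y : G) * m⁻¹⁻¹ = m⁻¹ * (y : G) * m
    rw [inv_inv]

omit [Finite G] in
/-- a subgroup of `Z` normalised by `M` is in the core -/
theorem le_coreIn {M Z N : Subgroup G} (hNM : N ≤ M) (hNZ : N ≤ Z) (h : M ≤ Subgroup.normalizer (N : Set G)) :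
    N ≤ coreIn M Z := by
  intro x hx
  have h1 : (N.subgroupOf M).Normal := Subgroup.normal_subgroupOf_of_le_normalizer h
  have h2 : N.subgroupOf M ≤ (Z.subgroupOf M).normalCore :=
    Subgroup.normal_le_normalCore.2 (Subgroup.comap_mono hNZ)
  exact ⟨⟨x, hNM hx⟩, h2 (Subgroup.mem_subgroupOf.2 hx), rfl⟩

omit [Finite G] in
/-- second cores -/
theorem ns_second {X Y : Subgroup G} {A B : Subgroup G} (hA : A = coreIn X (X ⊓ Y)) (hB : B = coreIn Y (X ⊓ Y))
    (hne : coreIn X (A ⊓ B) ≠ ⊥) : NS (coreIn X (A ⊓ B)) X Y := by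
  have hAX : A ≤ X := hA ▸ coreIn_leM _ _
  have hBY : B ≤ Y := hB ▸ coreIn_leM _ _
  have hBX : B ≤ X := (hB ▸ coreIn_le Y (X ⊓ Y) : B ≤ X ⊓ Y).trans inf_le_left
  have hnA : X ≤ Subgroup.normalizer (A : Set G) := hA ▸ coreIn_norm _ _
  have hnB : Y ≤ Subgroup.normalizer (B : Set G) := hB ▸ coreIn_norm _ _
  refine ⟨coreIn_leM _ _, coreIn_norm _ _, (coreIn_le _ _).trans (inf_le_right.trans hBY), ?_, hne⟩
  have h1 : ((coreIn X (A ⊓ B)).subgroupOf (A ⊓ B)).IsSubnormal := by
    apply Subgroup.Normal.isSubnormal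
    apply Subgroup.normal_subgroupOf_of_le_normalizer
    exact (inf_le_left.trans hAX).trans (coreIn_norm _ _)
  have h2 : ((A ⊓ B).subgroupOf B).IsSubnormal := by
    apply Subgroup.Normal.isSubnormal
    apply Subgroup.normal_subgroupOf_of_le_normalizer
    intro b hb
    rw [Subgroup.mem_normalizer_iff]
    intro x
    rw [Subgroup.mem_inf, Subgroup.mem_inf, ← Subgroup.mem_normalizer_iff.1 (hnA (hBX hb)) x,
      ← Subgroup.mem_normalizer_iff.1 (Subgroup.le_normalizer hb) x]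
  have h3 : (B.subgroupOf Y).IsSubnormal := by
    apply Subgroup.Normal.isSubnormal
    exact Subgroup.normal_subgroupOf_of_le_normalizer hnB
  exact subnormal_trans (coreIn_le _ _) (inf_le_right.trans hBY) h1 (subnormal_trans inf_le_right hBY h2 h3)

end H15.TW
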