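import Cfsg.Agent.Lib.H15.TWCore
import Cfsg.Agent.Lib.H71.PChains

/-!
The Thompson-Wielandt theorem for two conjugate maximal subgroups.
-/

set_option autoImplicit false

open Cfsg Subgroup H26.Basic H26.Components H26.PxQ H26.GenFitting H26.LocalFitting

namespace H15.TW

variable {G : Type*} [Group G]

/-- `X` is the normaliser of each of its nontrivial normal subgroups -/
def Prim (X : Subgroup G) : Prop :=
  ∀ N : Subgroup G, N ≤ X → N ≠ ⊥ → X ≤ Subgroup.normalizer (N : Set G) → Subgroup.normalizer (N : Set G) ≤ X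

theorem prim_of_maximal {X : Subgroup G} (hX : IsCoatom X) (hc : X.normalCore = ⊥) : Prim X := by
  intro N hN hNb hXN
  rcases hX.le_iff.1 hXN with h | h
  · exfalso
    have hn : N.Normal := Subgroup.normalizer_eq_top_iff.1 h
    apply hNb
    rw [eq_bot_iff, ← hc]
    exact Subgroup.normal_le_normalCore.2 hN
  · exact h.le

/-- `A` is a normal subgroup of `X` and subnormal in `Y` -/
structure NS (A X Y : Subgroup G) : Prop where
  leX : A ≤ X
  norm : X ≤ Subgroup.normalizer (A : Set G)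
  leY : A ≤ Y
  sub : (A.subgroupOf Y).IsSubnormal
  ne : A ≠ ⊥

theorem subnormal_of_le {A B C : Subgroup G} (hBC : B ≤ C) (h : (A.subgroupOf C).IsSubnormal) :
    (A.subgroupOf B).IsSubnormal := by
  have h1 := h.comap (Subgroup.inclusion hBC)
  have h2 : (A.subgroupOf C).comap (Subgroup.inclusion hBC) = A.subgroupOf B := by
    ext x
    rfl
  rwa [h2] at h1

theorem subnormal_trans {A B C : Subgroup G} (hAB : A ≤ B) (hBC : B ≤ C) (h1 : (A.subgroupOf B).IsSubnormal)
    (h2 : (B.subgroupOf C).IsSubnormal) : (A.subgroupOf C).IsSubnormal := by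
  refine Subgroup.IsSubnormal.trans (K := B.subgroupOf C) (Subgroup.comap_mono hAB) ?_ h2
  have h3 := h1.comap ((Subgroup.subgroupOfEquivOfLe hBC).toMonoidHom)
  have h4 : (A.subgroupOf B).comap ((Subgroup.subgroupOfEquivOfLe hBC).toMonoidHom) =
      (A.subgroupOf C).subgroupOf (B.subgroupOf C) := by
    ext x
    rfl
  rwa [h4] at h3

/-- `O^p(Q R) = Q` for `Q` subnormal `p`-perfect in `H` and `R` a normal `p`-subgroup of `H` -/
theorem opUp_sup {p : ℕ} {K H R : Subgroup G} (hKH : K ≤ H)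
    (hs : (K.subgroupOf H).IsSubnormal) (hK : opUp p K = K) (hRH : R ≤ H)
    (hHR : H ≤ Subgroup.normalizer (R : Set G)) (hR : IsPGroup p R) : opUp p (K ⊔ R) = K := by
  set X := K ⊔ R with hX
  have hXH : X ≤ H := sup_le hKH hRH
  have hs' : (K.subgroupOf X).IsSubnormal := subnormal_of_le hXH hs
  have hpow := H36.SubnormalPerfect.exists_pow_mem hs' (hR.comap_subtype (K := X)) (fun x => by
    obtain ⟨k, hk, r, hr, hx⟩ := (mem_sup_of_le_normalizer (hKH.trans hHR)).mp x.2
    refine ⟨⟨k, Subgroup.mem_sup_left hk⟩, Subgroup.mem_subgroupOf.mpr hk,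
      ⟨r, Subgroup.mem_sup_right hr⟩, hr, Subtype.ext ?_⟩
    simpa using hx.symm)
  have h1 : opUp p X ≤ K := by
    rw [opUp, Subgroup.closure_le]
    rintro x ⟨hx, hc⟩
    obtain ⟨n, hn⟩ := hpow ⟨x, hx⟩
    exact H36.SubnormalPerfect.mem_of_pow_mem hc (by simpa [Subgroup.mem_subgroupOf] using hn)
  apply le_antisymm h1
  calc K = opUp p K := hK.symm
    _ ≤ opUp p X := opUp_mono le_sup_left

variable [Finite G] {X Y : Subgroup G}

/-- `O_r(X) ∩ Y ≤ O_r(Y)` -/
theorem inf_le {r : ℕ} [hr : Fact r.Prime] (hX : Prim X) {Q : Subgroup G} (hQ : NS Q X Y) (hQr : opUp r Q = Q) :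
    pc r X ⊓ Y ≤ pc r Y := by
  classical
  have h1 : pc r Y ≤ Subgroup.normalizer (Q : Set G) :=
    H36.SubnormalPerfect.le_normalizer_of_isSubnormal hQ.leY hQ.sub hQr (pc_le r Y) (le_normalizer_pc r Y) (isPGroup_pc r Y)
  have hNQ := hX Q hQ.leX hQ.ne hQ.norm
  set T := pc r X ⊓ Y with hT
  have hTX : T ≤ X := inf_le_left.trans (pc_le r X)
  have hTp : IsPGroup r T := (isPGroup_pc r X).to_le inf_le_left
  -- `[T, Q] ≤ O_r(Y)`
  have h2 : ⁅Q, T⁆ ≤ pc r Y := by
    have h3 : ⁅Q, T⁆ ≤ pc r X ⊓ Q := by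
      refine le_inf ?_ ?_
      · refine (Subgroup.commutator_mono le_rfl (inf_le_left : T ≤ pc r X)).trans ?_
        exact Subgroup.le_normalizer_iff_commutator_le_right.mp (hQ.leX.trans (le_normalizer_pc r X))
      · exact Subgroup.le_normalizer_iff_commutator_le_left.mp (hTX.trans hQ.norm)
    refine h3.trans ?_
    apply le_pc_of_isSubnormal (inf_le_right.trans hQ.leY) ?_ ((isPGroup_pc r X).to_le inf_le_left)
    refine subnormal_trans inf_le_right hQ.leY ?_ hQ.sub
    apply Subgroup.Normal.isSubnormal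
    apply Subgroup.normal_subgroupOf_of_le_normalizer
    have h4 : Q ≤ Subgroup.normalizer ((pc r X : Subgroup G) : Set G) := hQ.leX.trans (le_normalizer_pc r X)
    intro g hg
    rw [Subgroup.mem_normalizer_iff]
    intro x
    rw [Subgroup.mem_inf, Subgroup.mem_inf, ← Subgroup.mem_normalizer_iff.1 (h4 hg) x,
      ← Subgroup.mem_normalizer_iff.1 (Subgroup.le_normalizer hg) x]
  -- quotient
  let π := QuotientGroup.mk' (pCore r Y)
  have hπ : Function.Surjective π := QuotientGroup.mk'_surjective _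
  have hkill : ∀ {S : Subgroup G}, S ≤ Y → ((S.subgroupOf Y).map π = ⊥ ↔ S ≤ pc r Y) := by
    intro S hS
    rw [Subgroup.map_eq_bot_iff, QuotientGroup.ker_mk']
    constructor
    · intro h
      have h3 := Subgroup.map_mono (f := Y.subtype) h
      rwa [Subgroup.map_subgroupOf_eq_of_le hS] at h3
    · intro h x hx
      obtain ⟨y, hy, hyx⟩ := h (Subgroup.mem_subgroupOf.1 hx)
      have h3 : y = x := Subtype.ext hyx
      rw [← h3]
      exact hy
  rw [← hkill inf_le_right]
  apply eq_bot_of_core (p := r) (H1.Cores.pCore_quotient_pCore r) (U := (Q.subgroupOf Y).map π)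
    (hQ.sub.map hπ) ((hTp.comap_subtype (K := Y)).map π)
  · rw [← Subgroup.map_commutator]
    have h3 : ⁅Q.subgroupOf Y, T.subgroupOf Y⁆ ≤ (⁅Q, T⁆).subgroupOf Y := by
      rw [Subgroup.commutator_le]
      intro a ha b hb
      exact Subgroup.mem_subgroupOf.2 (Subgroup.commutator_mem_commutator (Subgroup.mem_subgroupOf.1 ha) (Subgroup.mem_subgroupOf.1 hb))
    have h4 := (hkill (S := ⁅Q, T⁆) (h2.trans (pc_le r Y))).2 h2
    exact le_bot_iff.1 ((Subgroup.map_mono h3).trans h4.le)
  · intro z hz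
    obtain ⟨y, rfl⟩ := hπ z
    rw [Subgroup.mem_centralizer_iff] at hz
    -- `y` normalizes `Q O_r(Y)`
    have h3 : ∀ q ∈ Q, (y : G) * q * (y : G)⁻¹ ∈ Q ⊔ pc r Y := by
      intro q hq
      have hqY : q ∈ Y := hQ.leY hq
      have h4 := hz (π ⟨q, hqY⟩) ⟨⟨q, hqY⟩, Subgroup.mem_subgroupOf.2 hq, rfl⟩
      have h5 : π (y * ⟨q, hqY⟩ * y⁻¹ * (⟨q, hqY⟩ : Y)⁻¹) = 1 := by
        rw [map_mul, map_mul, map_mul, map_inv, map_inv, ← h4]
        group
      have h6 := (QuotientGroup.eq_one_iff _).1 h5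
      have h7 : (y : G) * q * (y : G)⁻¹ * q⁻¹ ∈ pc r Y := ⟨_, h6, rfl⟩
      have h8 : (y : G) * q * (y : G)⁻¹ = ((y : G) * q * (y : G)⁻¹ * q⁻¹) * q := by group
      rw [h8]
      exact Subgroup.mul_mem _ (Subgroup.mem_sup_right h7) (Subgroup.mem_sup_left hq)
    have h4 : (Q ⊔ pc r Y).map (MulAut.conj (y : G)).toMonoidHom ≤ Q ⊔ pc r Y := by
      rw [Subgroup.map_sup]
      apply sup_le
      · rintro _ ⟨q, hq, rfl⟩
        exact h3 q hq
      · rintro _ ⟨q, hq, rfl⟩
        apply Subgroup.mem_sup_right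
        exact (Subgroup.mem_normalizer_iff.1 (le_normalizer_pc r Y y.2) q).1 hq
    have h5 : (y : G) ∈ Subgroup.normalizer ((Q ⊔ pc r Y : Subgroup G) : Set G) := by
      rw [Subgroup.mem_normalizer_iff_map_conj_eq]
      apply Subgroup.eq_of_le_of_card_ge h4
      exact (Nat.card_congr ((Q ⊔ pc r Y).equivMapOfInjective _ (MulAut.conj (y : G)).injective).toEquiv).le
    have h6 := normalizer_le_normalizer_opUp r _ h5
    rw [opUp_sup hQ.leY hQ.sub hQr (pc_le r Y) (le_normalizer_pc r Y) (isPGroup_pc r Y)] at h6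
    have hyX : (y : G) ∈ X := hNQ h6
    have h7 : y ∈ Subgroup.normalizer ((T.subgroupOf Y : Subgroup Y) : Set Y) := by
      rw [Subgroup.mem_normalizer_iff]
      intro x
      rw [Subgroup.mem_subgroupOf, Subgroup.mem_subgroupOf, hT, Subgroup.mem_inf, Subgroup.mem_inf]
      have h8 := Subgroup.mem_normalizer_iff.1 (le_normalizer_pc r X hyX) (x : G)
      constructor
      · rintro ⟨ha, -⟩
        exact ⟨h8.1 ha, (y * x * y⁻¹).2⟩
      · rintro ⟨ha, -⟩
        exact ⟨h8.2 ha, x.2⟩
    have h8 := Subgroup.le_normalizer_map (H := T.subgroupOf Y) π (Subgroup.mem_map_of_mem π h7)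
    exact h8

/-- the main step: `A` normal in `X` and subnormal in `Y` with `O^r(A) ≠ 1` is impossible if `O_r(X) ≠ 1` -/
theorem star {r : ℕ} [hr : Fact r.Prime] (hX : Prim X) (hY : Prim Y) (hne : X ≠ Y)
    (hcard : Nat.card (pc r X) = Nat.card (pc r Y)) (hO : pc r X ≠ ⊥) {Q : Subgroup G} (hQ : NS Q X Y)
    (hQr : opUp r Q = Q) : False := by
  have h1 : pc r Y ≤ Subgroup.normalizer (Q : Set G) :=
    H36.SubnormalPerfect.le_normalizer_of_isSubnormal hQ.leY hQ.sub hQr (pc_le r Y) (le_normalizer_pc r Y) (isPGroup_pc r Y)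
  have h2 : pc r Y ≤ X := h1.trans (hX Q hQ.leX hQ.ne hQ.norm)
  have h3 := inf_le hX hQ hQr
  have hOY : pc r Y ≠ ⊥ := by
    intro h
    rw [h, Subgroup.card_bot, Subgroup.card_eq_one] at hcard
    exact hO hcard
  have hNX := hX _ (pc_le r X) hO (le_normalizer_pc r X)
  have hNY := hY _ (pc_le r Y) hOY (le_normalizer_pc r Y)
  have h4 : pc r X ≤ pc r Y := by
    by_contra hcon
    have hRp : IsPGroup r (pc r X ⊔ pc r Y : Subgroup G) := by
      rw [sup_comm]
      exact IsPGroup.to_sup_of_normal_right' (isPGroup_pc r Y) (isPGroup_pc r X) (h2.trans (le_normalizer_pc r X))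
    have hlt : pc r Y < pc r X ⊔ pc r Y := lt_of_le_of_ne le_sup_right (fun h => hcon (by rw [h]; exact le_sup_left))
    have h5 := H71.PChains.lt_normalizer_inf hRp hlt
    obtain ⟨x, hx1, hx2⟩ := SetLike.exists_of_lt h5
    obtain ⟨hx3, hx4⟩ := Subgroup.mem_inf.1 hx1
    obtain ⟨a, ha, b, hb, rfl⟩ := (mem_sup_of_le_normalizer' (h2.trans (le_normalizer_pc r X))).1 hx4
    have h6 : a ∈ Subgroup.normalizer ((pc r Y : Subgroup G) : Set G) := by
      have h7 : a = (a * b) * b⁻¹ := by group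
      rw [h7]
      exact Subgroup.mul_mem _ hx3 (Subgroup.inv_mem _ (Subgroup.le_normalizer hb))
    exact hx2 (Subgroup.mul_mem _ (h3 (Subgroup.mem_inf.2 ⟨ha, hNY h6⟩)) hb)
  have h5 : pc r X = pc r Y := Subgroup.eq_of_le_of_card_ge h4 hcard.ge
  apply hne
  apply le_antisymm
  · refine le_trans ?_ hNY
    rw [← h5]
    exact le_normalizer_pc r X
  · refine le_trans ?_ hNX
    rw [h5]
    exact le_normalizer_pc r Y

/-- so `A` is an `r`-group -/
theorem isPGroup_of {r : ℕ} [hr : Fact r.Prime] (hX : Prim X) (hY : Prim Y) (hne : X ≠ Y)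
    (hcard : Nat.card (pc r X) = Nat.card (pc r Y)) (hO : pc r X ≠ ⊥) {A : Subgroup G} (hA : NS A X Y) :
    IsPGroup r A := by
  by_contra hcon
  have hQ : NS (opUp r A) X Y := by
    refine ⟨(opUp_le r A).trans hA.leX, hA.norm.trans (normalizer_le_normalizer_opUp r A),
      (opUp_le r A).trans hA.leY, ?_, ?_⟩
    · apply subnormal_trans (opUp_le r A) hA.leY ?_ hA.sub
      exact (opUp_subgroupOf_normal r A).isSubnormal
    · intro h
      apply hcon
      intro x
      obtain ⟨k, hk⟩ := exists_pow_mem_opUp (p := r) (H := A) x.2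
      rw [h, Subgroup.mem_bot] at hk
      exact ⟨k, Subtype.ext (by simpa using hk)⟩
  apply star hX hY hne hcard hO hQ
  apply le_antisymm (opUp_le r _)
  conv_lhs => rw [opUp]
  rw [Subgroup.closure_le]
  intro x hx
  exact mem_opUp (mem_opUp hx.1 hx.2) hx.2

/-- a component of `Y` normalizes `A`: contained in `A` or centralizing it -/
theorem component_cases {A K : Subgroup G} (hAY : A ≤ Y) (hA : (A.subgroupOf Y).IsSubnormal) (hKY : K ≤ Y)
    (hK : IsComponent (K.subgroupOf Y)) : K ≤ A ∨ ⁅K, A⁆ = ⊥ := by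
  rcases le_or_commutator_eq_bot hK hA with h | h
  · left
    have h1 := Subgroup.map_mono (f := Y.subtype) h
    rwa [Subgroup.map_subgroupOf_eq_of_le hKY, Subgroup.map_subgroupOf_eq_of_le hAY] at h1
  · right
    exact (subgroupOf_commutator_eq_bot_iff hKY hAY).1 h

theorem component_le_of {A K : Subgroup G} (hX : Prim X) (hA : NS A X Y) (hKY : K ≤ Y)
    (hK : IsComponent (K.subgroupOf Y)) : K ≤ X := by
  rcases component_cases hA.leY hA.sub hKY hK with h | h
  · exact h.trans hA.leX
  · exact (le_normalizer_of_commutator_eq_bot h).trans (hX A hA.leX hA.ne hA.norm)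

/-- components of `X` are components of `Y` -/
theorem component_trans {A B K : Subgroup G} (hX : Prim X) (hY : Prim Y) (hA : NS A X Y) (hB : NS B Y X)
    (hKX : K ≤ X) (hK : IsComponent (K.subgroupOf X)) : K ≤ Y ∧ IsComponent (K.subgroupOf Y) := by
  have hKY : K ≤ Y := component_le_of hY hB hKX hK
  refine ⟨hKY, ?_⟩
  have hAX : (A.subgroupOf X).IsSubnormal := by
    apply Subgroup.Normal.isSubnormal
    exact Subgroup.normal_subgroupOf_of_le_normalizer hA.norm
  have hKq : IsQuasisimple K := (isQuasisimple_subgroupOf hKX).1 hK.2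
  rcases component_cases hA.leX hAX hKX hK with h | h
  · exact ⟨subnormal_trans h hA.leY (subnormal_of_le hA.leX hK.1) hA.sub, (isQuasisimple_subgroupOf hKY).2 hKq⟩
  · -- `K ≤ C_Y(A)`
    have hKC : K.subgroupOf Y ≤ Subgroup.centralizer ((A.subgroupOf Y : Subgroup Y) : Set Y) := by
      rw [← Subgroup.commutator_eq_bot_iff_le_centralizer]
      exact (subgroupOf_commutator_eq_bot_iff hKY hA.leY).2 h
    apply component_of_centralizer hA.sub hKC
    refine ⟨?_, (isQuasisimple_subgroupOf hKC).2 ((isQuasisimple_subgroupOf hKY).2 hKq)⟩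
    have hCX : ∀ y : Subgroup.centralizer ((A.subgroupOf Y : Subgroup Y) : Set Y), ((y : Y) : G) ∈ X := by
      intro y
      apply hX A hA.leX hA.ne hA.norm
      apply Subgroup.centralizer_le_normalizer
      rw [Subgroup.mem_centralizer_iff]
      intro a ha
      have h1 := Subgroup.mem_centralizer_iff.1 y.2 ⟨a, hA.leY ha⟩ (Subgroup.mem_subgroupOf.2 ha)
      exact congrArg Subtype.val h1
    let j : Subgroup.centralizer ((A.subgroupOf Y : Subgroup Y) : Set Y) →* X :=
      { toFun := fun y => ⟨((y : Y) : G), hCX y⟩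
        map_one' := rfl
        map_mul' := fun _ _ => rfl }
    have h1 := hK.1.comap j
    have h2 : (K.subgroupOf X).comap j = (K.subgroupOf Y).subgroupOf
        (Subgroup.centralizer ((A.subgroupOf Y : Subgroup Y) : Set Y)) := by
      ext x
      rfl
    rwa [h2] at h1

/-- no components -/
theorem layer_eq_bot {A B : Subgroup G} (hX : Prim X) (hY : Prim Y) (hne : X ≠ Y) (hA : NS A X Y)
    (hB : NS B Y X) : layer X = ⊥ := by
  by_contra hcon
  have key : ∀ {X Y A B : Subgroup G}, Prim X → Prim Y → NS A X Y → NS B Y X →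
      (layer X).map X.subtype ≤ (layer Y).map Y.subtype := by
    intro X Y A B hX hY hA hB
    rw [layer, (Subgroup.gc_map_comap _).l_sSup]
    apply iSup₂_le
    intro K hK
    have hKX : K.map X.subtype ≤ X := Subgroup.map_subtype_le K
    have hK' : IsComponent ((K.map X.subtype).subgroupOf X) := by
      rw [Subgroup.subgroupOf, Subgroup.comap_map_eq_self_of_injective X.subtype_injective]
      exact hK
    obtain ⟨h1, h2⟩ := component_trans hX hY hA hB hKX hK'
    have h3 := Subgroup.map_mono (f := Y.subtype) (le_layer h2)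
    rwa [Subgroup.map_subgroupOf_eq_of_le h1] at h3
  have h1 : (layer X).map X.subtype = (layer Y).map Y.subtype :=
    le_antisymm (key hX hY hA hB) (key hY hX hB hA)
  have hnX : X ≤ Subgroup.normalizer (((layer X).map X.subtype : Subgroup G) : Set G) :=
    Subgroup.le_normalizer.trans (normalizer_le_normalizer_map_char X (layer X))
  have hnY : Y ≤ Subgroup.normalizer (((layer Y).map Y.subtype : Subgroup G) : Set G) :=
    Subgroup.le_normalizer.trans (normalizer_le_normalizer_map_char Y (layer Y))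
  have hb : (layer X).map X.subtype ≠ ⊥ := by
    rw [Ne, Subgroup.map_eq_bot_iff_of_injective _ X.subtype_injective]
    exact hcon
  have h2 := hX _ (Subgroup.map_subtype_le _) hb hnX
  have h3 := hY _ (Subgroup.map_subtype_le _) (h1 ▸ hb) hnY
  apply hne
  apply le_antisymm
  · refine le_trans ?_ h3
    rw [← h1]
    exact hnX
  · refine le_trans ?_ h2
    rw [h1]
    exact hnY

end H15.TW
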