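import Cfsg.Agent.Lib.H62.PrimGroup
import Cfsg.Agent.S0721

set_option autoImplicit false

/-! Primitive groups with two minimal normal subgroups; the socle. -/

namespace H15.TwoMin

open MulAction

variable {G Ω : Type*} [Group G] [MulAction G Ω] [FaithfulSMul G Ω]

/-- minimal normal subgroup -/
def MN (V : Subgroup G) : Prop := V.Normal ∧ V ≠ ⊥ ∧ ∀ M : Subgroup G, M.Normal → M ≤ V → M = ⊥ ∨ M = V

omit [MulAction G Ω] [FaithfulSMul G Ω] in
theorem inf_eq_bot {V W : Subgroup G} (hV : MN V) (hW : MN W) (h : V ≠ W) : V ⊓ W = ⊥ := by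
  have hn : (V ⊓ W).Normal := by
    have := hV.1; have := hW.1; infer_instance
  rcases hV.2.2 _ hn inf_le_left with h1 | h1
  · exact h1
  · exfalso
    have h2 : V ≤ W := by rw [← h1]; exact inf_le_right
    rcases hW.2.2 V hV.1 h2 with h3 | h3
    · exact hV.2.1 h3
    · exact h h3

omit [MulAction G Ω] [FaithfulSMul G Ω] in
theorem commute {V W : Subgroup G} (hV : V.Normal) (hW : W.Normal) (h : V ⊓ W = ⊥) {v w : G} (hv : v ∈ V) (hw : w ∈ W) :
    v * w = w * v :=
  (Subgroup.commute_of_normal_of_disjoint V W hV hW (disjoint_iff.2 h) v w hv hw).eq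

/-- uniqueness of the centraliser: if `V` is transitive, `W` transitive and commuting with `V`, and `X` commutes with `V`
then `X ≤ W` -/
theorem mem_of_commute [Nonempty Ω] {V W : Subgroup G} [IsPretransitive V Ω] [IsPretransitive W Ω]
    (hVW : ∀ v ∈ V, ∀ w ∈ W, v * w = w * v) {x : G} (hx : ∀ v ∈ V, x * v = v * x) : x ∈ W := by
  obtain ⟨a⟩ := ‹Nonempty Ω›
  obtain ⟨w, hw⟩ := exists_smul_eq W a (x • a)
  have h1 : (w : G)⁻¹ * x = 1 := by
    apply H62.PrimGroup.eq_one_of_centralizes (Δ := Ω) V (x := a)
    · intro v hv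
      rw [mul_assoc, hx v hv, ← mul_assoc, ← mul_assoc]
      congr 1
      rw [inv_mul_eq_iff_eq_mul, ← mul_assoc, ← hVW v hv w w.2, mul_assoc, mul_inv_cancel, mul_one]
    · rw [mul_smul, inv_smul_eq_iff]
      exact hw.symm
  rw [inv_mul_eq_one] at h1
  rw [← h1]
  exact w.2

/-- commuting transitive subgroups are isomorphic -/
theorem equiv_of_commute [Nonempty Ω] {V W : Subgroup G} [IsPretransitive V Ω] [IsPretransitive W Ω]
    (hVW : ∀ v ∈ V, ∀ w ∈ W, v * w = w * v) : Nonempty (V ≃* W) := by
  obtain ⟨a⟩ := ‹Nonempty Ω›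
  have hWu : ∀ w w' : W, ∀ x : Ω, (w : G) • x = (w' : G) • x → w = w' := by
    intro w w' x h
    have h1 : (w' : G)⁻¹ * w = 1 := by
      apply H62.PrimGroup.eq_one_of_centralizes (Δ := Ω) V (x := x)
      · intro v hv
        exact (hVW v hv _ (W.mul_mem (W.inv_mem w'.2) w.2)).symm
      · rw [mul_smul, inv_smul_eq_iff]
        exact h
    exact Subtype.ext (inv_mul_eq_one.1 h1).symm
  have hVu : ∀ w w' : V, ∀ x : Ω, (w : G) • x = (w' : G) • x → w = w' := by
    intro w w' x h
    have h1 : (w' : G)⁻¹ * w = 1 := by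
      apply H62.PrimGroup.eq_one_of_centralizes (Δ := Ω) W (x := x)
      · intro v hv
        exact hVW _ (V.mul_mem (V.inv_mem w'.2) w.2) v hv
      · rw [mul_smul, inv_smul_eq_iff]
        exact h
    exact Subtype.ext (inv_mul_eq_one.1 h1).symm
  choose φ hφ using fun v : V => exists_smul_eq W ((v : G) • a) a
  have hφ' : ∀ v : V, (φ v : G) • (v : G) • a = a := hφ
  let f : V →* W := MonoidHom.mk' φ (by
    intro u v
    apply hWu _ _ (((u * v : V) : G) • a)
    rw [hφ', Subgroup.coe_mul, Subgroup.coe_mul, mul_smul, mul_smul]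
    have h1 : (φ v : G) • (u : G) • (v : G) • a = (u : G) • (φ v : G) • (v : G) • a := by
      rw [← mul_smul (φ v : G) (u : G), ← mul_smul (u : G) (φ v : G), hVW u u.2 _ (φ v).2]
    rw [h1, hφ', hφ'])
  refine ⟨MulEquiv.ofBijective f ⟨?_, ?_⟩⟩
  · rw [injective_iff_map_eq_one]
    intro v hv
    have h1 : φ v = 1 := hv
    have h2 := hφ' v
    rw [h1, Subgroup.coe_one, one_smul] at h2
    exact hVu v 1 a (by rw [h2, Subgroup.coe_one, one_smul])
  · intro w
    obtain ⟨v, hv⟩ := exists_smul_eq V a ((w : G)⁻¹ • a)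
    have hv' : (v : G) • a = (w : G)⁻¹ • a := hv
    refine ⟨v, ?_⟩
    change φ v = w
    apply hWu _ _ ((v : G) • a)
    rw [hφ', hv', smul_inv_smul]

variable [IsPreprimitive G Ω]

theorem transitive {V : Subgroup G} (hV : MN V) : IsPretransitive V Ω := by
  have := hV.1
  exact H62.PrimGroup.normal_transitive V hV.2.1

omit [MulAction G Ω] [FaithfulSMul G Ω] [IsPreprimitive G Ω] in
theorem exists_MN [Finite G] [Nontrivial G] : ∃ V : Subgroup G, MN V := by
  obtain ⟨N, ⟨hN, hNb⟩, hmin⟩ := Set.exists_min_image {N : Subgroup G | N.Normal ∧ N ≠ ⊥} (fun N => Nat.card N)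
    (Set.toFinite _) ⟨⊤, inferInstance, top_ne_bot⟩
  refine ⟨N, hN, hNb, ?_⟩
  intro M hM hMN
  by_cases h : M = ⊥
  · left; exact h
  · right
    exact Subgroup.eq_of_le_of_card_ge hMN (hmin M ⟨hM, h⟩)

/-- at most two minimal normal subgroups -/
theorem eq_or_eq [Nonempty Ω] {V W X : Subgroup G} (hV : MN V) (hW : MN W) (hX : MN X) (hVW : V ≠ W) : X = V ∨ X = W := by
  by_cases h : X = V
  · left; exact h
  · right
    have htV := transitive (Ω := Ω) hV
    have htW := transitive (Ω := Ω) hW
    have h1 := inf_eq_bot hX hV h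
    have h2 := inf_eq_bot hV hW hVW
    have h3 : X ≤ W := by
      intro x hx
      apply mem_of_commute (Ω := Ω) (V := V) (W := W) (fun v hv w hw => commute hV.1 hW.1 h2 hv hw)
      intro v hv
      exact commute hX.1 hV.1 h1 hx hv
    rcases hW.2.2 X hX.1 h3 with h4 | h4
    · exact absurd h4 hX.2.1
    · exact h4

theorem socle [Finite G] [Finite Ω] [Nonempty Ω] [Nontrivial G] (N : Subgroup G)
    (hN : N = sSup {V : Subgroup G | V.Normal ∧ V ≠ ⊥ ∧ ∀ M : Subgroup G, M.Normal → M ≤ V → M = ⊥ ∨ M = V}) :
    (∃ p : ℕ, p.Prime ∧ IsMulCommutative N ∧ (∀ x : N, x ^ p = 1) ∧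
      MulAction.IsPretransitive N Ω ∧ ∀ ω : Ω, MulAction.stabilizer N ω = ⊥) ∨
    (∃ (T : Type) (_ : Group T) (m : ℕ), 1 ≤ m ∧ IsSimpleGroup T ∧ ¬ IsMulCommutative T ∧ Nonempty (N ≃* (Fin m → T))) := by
  classical
  have hset : {V : Subgroup G | V.Normal ∧ V ≠ ⊥ ∧ ∀ M : Subgroup G, M.Normal → M ≤ V → M = ⊥ ∨ M = V} = {V | MN V} := rfl
  rw [hset] at hN
  by_cases hF : Cfsg.fittingSubgroup G = ⊥
  · right
    have hnab : ∀ V : Subgroup G, MN V → ¬ IsMulCommutative V := by
      intro V hV h
      apply hV.2.1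
      rw [eq_bot_iff, ← hF]
      have hnil : Group.IsNilpotent V := by
        have hc : ∀ a b : V, a * b = b * a := fun a b => h.is_comm.comm a b
        let _ : CommGroup V := { (inferInstance : Group V) with mul_comm := hc }
        infer_instance
      exact le_sSup ⟨hV.1, hnil⟩
    obtain ⟨V, hV⟩ := exists_MN (G := G)
    have := hV.1
    obtain ⟨T, hTg, m, hTs, hm, ⟨e⟩⟩ := Cfsg.Agent.S0721.result V hV.2.1 hV.2.2
    have hT : ¬ IsMulCommutative T := by
      intro h
      apply hnab V hV
      refine ⟨⟨fun x y => e.injective ?_⟩⟩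
      rw [map_mul, map_mul]
      funext i
      exact h.is_comm.comm _ _
    by_cases hu : ∀ W, MN W → W = V
    · have hNV : N = V := by
        rw [hN]
        apply le_antisymm
        · apply sSup_le
          intro W hW
          exact (hu W hW).le
        · exact le_sSup hV
      subst hNV
      exact ⟨T, hTg, m, hm, hTs, hT, ⟨e⟩⟩
    · push Not at hu
      obtain ⟨W, hW, hWV⟩ := hu
      have htV := transitive (Ω := Ω) hV
      have htW := transitive (Ω := Ω) hW
      have h2 := inf_eq_bot hV hW (Ne.symm hWV)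
      have hcomm : ∀ v ∈ V, ∀ w ∈ W, v * w = w * v := fun v hv w hw => commute hV.1 hW.1 h2 hv hw
      obtain ⟨φ⟩ := equiv_of_commute (Ω := Ω) hcomm
      have hNVW : N = V ⊔ W := by
        rw [hN]
        apply le_antisymm
        · apply sSup_le
          intro X hX
          rcases eq_or_eq (Ω := Ω) hV hW hX (Ne.symm hWV) with h | h
          · rw [h]; exact le_sup_left
          · rw [h]; exact le_sup_right
        · exact sup_le (le_sSup hV) (le_sSup hW)
      have hWn := hW.1
      -- V × V → N
      let f : V × V →* G :=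
        { toFun := fun x => (x.1 : G) * (φ x.2 : G)
          map_one' := by simp
          map_mul' := by
            intro x y
            have h3 := hcomm y.1 y.1.2 (φ x.2) (φ x.2).2
            simp only [Prod.fst_mul, Prod.snd_mul, map_mul, Subgroup.coe_mul]
            calc (x.1 : G) * y.1 * (φ x.2 * φ y.2) = x.1 * (y.1 * φ x.2) * φ y.2 := by group
              _ = x.1 * (φ x.2 * y.1) * φ y.2 := by rw [h3]
              _ = x.1 * φ x.2 * (y.1 * φ y.2) := by group }
      have hfi : Function.Injective f := by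
        rw [injective_iff_map_eq_one]
        rintro ⟨x, y⟩ h
        have h3 : (x : G) * (φ y : G) = 1 := h
        have h4 : (x : G) = ((φ y : W) : G)⁻¹ := eq_inv_of_mul_eq_one_left h3
        have h5 : (x : G) ∈ V ⊓ W := ⟨x.2, by rw [h4]; exact W.inv_mem (φ y).2⟩
        rw [h2, Subgroup.mem_bot] at h5
        have h6 : x = 1 := Subtype.ext h5
        have h7 : φ y = 1 := by
          apply Subtype.ext
          rw [h5, one_mul] at h3
          exact h3
        have h8 : y = 1 := (map_eq_one_iff φ φ.injective).1 h7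
        rw [h6, h8]; rfl
      have hfr : f.range = N := by
        rw [hNVW]
        apply le_antisymm
        · rintro _ ⟨x, rfl⟩
          exact Subgroup.mul_mem_sup x.1.2 (φ x.2).2
        · apply sup_le
          · intro v hv
            exact ⟨(⟨v, hv⟩, 1), by simp [f]⟩
          · intro w hw
            obtain ⟨v, hv⟩ := φ.surjective ⟨w, hw⟩
            exact ⟨(1, v), by simp [f, hv]⟩
      refine ⟨T, hTg, m + m, by omega, hTs, hT, ⟨?_⟩⟩
      have e1 : N ≃* V × V := ((MonoidHom.ofInjective hfi).trans (MulEquiv.subgroupCongr hfr)).symm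
      have e2 : V × V ≃* (Fin m → T) × (Fin m → T) := e.prodCongr e
      have e3 : (Fin m → T) × (Fin m → T) ≃* (Fin (m + m) → T) :=
        { toFun := fun x => Fin.append x.1 x.2
          invFun := fun x => (fun i => x (Fin.castAdd m i), fun i => x (Fin.natAdd m i))
          left_inv := by
            rintro ⟨x, y⟩
            exact Prod.ext (funext fun i => Fin.append_left _ _ _) (funext fun i => Fin.append_right _ _ _)
          right_inv := by
            intro x
            exact Fin.append_castAdd_natAdd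
          map_mul' := by
            rintro ⟨x, y⟩ ⟨x', y'⟩
            funext i
            refine Fin.addCases (fun i => ?_) (fun i => ?_) i
            · change Fin.append (x * x') (y * y') (Fin.castAdd m i) = Fin.append x y (Fin.castAdd m i) * Fin.append x' y' (Fin.castAdd m i)
              rw [Fin.append_left, Fin.append_left, Fin.append_left]
              rfl
            · change Fin.append (x * x') (y * y') (Fin.natAdd m i) = Fin.append x y (Fin.natAdd m i) * Fin.append x' y' (Fin.natAdd m i)
              rw [Fin.append_right, Fin.append_right, Fin.append_right]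
              rfl }
      exact e1.trans (e2.trans e3)
  · left
    obtain ⟨hc, hcard, hself, p, e, hp, he, hexp⟩ := H62.PrimGroup.fitting_structure (H := G) (Δ := Ω) hF
    have hn : (Cfsg.fittingSubgroup G).Normal := H1.Cores.fittingSubgroup_normal
    have htF : IsPretransitive (Cfsg.fittingSubgroup G) Ω := H62.PrimGroup.normal_transitive _ hF
    have hall : ∀ V : Subgroup G, MN V → V = Cfsg.fittingSubgroup G := by
      intro V hV
      have hVn := hV.1
      have htV := transitive (Ω := Ω) hV
      have hle : V ≤ Cfsg.fittingSubgroup G := by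
        rcases hV.2.2 (V ⊓ Cfsg.fittingSubgroup G) inferInstance inf_le_left with h | h
        · intro v hv
          apply hself
          intro f hf
          exact commute hV.1 hn h hv hf
        · rw [← h]; exact inf_le_right
      apply Subgroup.eq_of_le_of_card_ge hle
      rw [hcard, H62.PrimGroup.card_eq_of_comm (Δ := Ω) V (fun a ha b hb => hc a (hle ha) b (hle hb))]
    obtain ⟨V, hV⟩ := exists_MN (G := G)
    have hNF : N = Cfsg.fittingSubgroup G := by
      rw [hN]
      apply le_antisymm
      · apply sSup_le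
        intro W hW
        exact (hall W hW).le
      · rw [← hall V hV]
        exact le_sSup hV
    rw [hNF]
    refine ⟨p, hp, ⟨⟨fun a b => Subtype.ext (hc a a.2 b b.2)⟩⟩, fun x => Subtype.ext (hexp x x.2), htF, ?_⟩
    intro ω
    rw [eq_bot_iff]
    intro d hd
    rw [Subgroup.mem_bot]
    apply Subtype.ext
    exact H62.PrimGroup.eq_one_of_centralizes (Δ := Ω) (Cfsg.fittingSubgroup G) (c := (d : G)) (fun n hn => hc _ d.2 _ hn) (x := ω) hd

end H15.TwoMin
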