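import Mathlib

set_option autoImplicit false
set_option linter.unusedSectionVars false

/-! Primitive groups of degree `2p`, part one: rational functions on `ZMod p` and characters. -/

namespace H15.TwoP

open Finset Polynomial

variable {p : ℕ} [Fact p.Prime]

/-- the convolution -/
def conv (f g : ZMod p → ℚ) (j : ZMod p) : ℚ := ∑ i, f i * g (j - i)

theorem conv_comm (f g : ZMod p → ℚ) : conv f g = conv g f := by
  funext j
  rw [conv, conv]
  refine Fintype.sum_equiv (Equiv.subLeft j) _ _ fun i => ?_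
  simp only [Equiv.subLeft_apply, sub_sub_cancel]
  ring

theorem sum_conv (f g : ZMod p → ℚ) : ∑ j, conv f g j = (∑ i, f i) * ∑ i, g i := by
  simp only [conv]
  rw [Finset.sum_comm, Finset.sum_mul]
  refine Finset.sum_congr rfl fun i _ => ?_
  rw [← Finset.mul_sum]
  congr 1
  exact Fintype.sum_equiv (Equiv.subRight i) _ _ fun j => rfl

/-- evaluation at a character -/
noncomputable def ev (ψ : AddChar (ZMod p) ℂ) (f : ZMod p → ℚ) : ℂ := ∑ j, (f j : ℂ) * ψ j

theorem ev_conv (ψ : AddChar (ZMod p) ℂ) (f g : ZMod p → ℚ) : ev ψ (conv f g) = ev ψ f * ev ψ g := by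
  simp only [ev, conv]
  rw [Finset.sum_mul]
  have h1 : ∀ j : ZMod p, (((∑ i, f i * g (j - i) : ℚ)) : ℂ) * ψ j =
      ∑ i, ((f i : ℂ) * ψ i) * ((g (j - i) : ℂ) * ψ (j - i)) := by
    intro j
    push_cast
    rw [Finset.sum_mul]
    refine Finset.sum_congr rfl fun i _ => ?_
    have h2 : ψ j = ψ i * ψ (j - i) := by
      rw [← AddChar.map_add_eq_mul]; congr 1; ring
    rw [h2]; ring
  rw [Finset.sum_congr rfl fun j _ => h1 j, Finset.sum_comm]
  refine Finset.sum_congr rfl fun i _ => ?_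
  rw [← Finset.mul_sum]
  congr 1
  exact Fintype.sum_equiv (Equiv.subRight i) _ _ fun j => rfl

theorem ev_add (ψ : AddChar (ZMod p) ℂ) (f g : ZMod p → ℚ) : ev ψ (f + g) = ev ψ f + ev ψ g := by
  simp only [ev, Pi.add_apply, Rat.cast_add, add_mul, Finset.sum_add_distrib]

theorem ev_sub (ψ : AddChar (ZMod p) ℂ) (f g : ZMod p → ℚ) : ev ψ (f - g) = ev ψ f - ev ψ g := by
  simp only [ev, Pi.sub_apply, Rat.cast_sub, sub_mul, Finset.sum_sub_distrib]

theorem ev_smul (ψ : AddChar (ZMod p) ℂ) (c : ℚ) (f : ZMod p → ℚ) : ev ψ (c • f) = (c : ℂ) * ev ψ f := by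
  simp only [ev, Pi.smul_apply, smul_eq_mul, Rat.cast_mul, Finset.mul_sum, mul_assoc]

/-- independence of the `p`-th roots of unity -/
theorem const_of_ev (ψ : AddChar (ZMod p) ℂ) (hψ : ψ ≠ 1) (f : ZMod p → ℚ) (h : ev ψ f = 0) (i j : ZMod p) :
    f i = f j := by
  have hp : p.Prime := Fact.out
  set ζ : ℂ := ψ 1 with hζ
  have hψζ : ∀ n : ℕ, ψ (n : ZMod p) = ζ ^ n := by
    intro n
    rw [hζ, ← AddChar.map_nsmul_eq_pow, nsmul_one]
  have hζp : ζ ^ p = 1 := by
    rw [← hψζ, ZMod.natCast_self, AddChar.map_zero_eq_one]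
  have hζ1 : ζ ≠ 1 := by
    intro h1
    apply hψ
    ext x
    rw [← ZMod.natCast_zmod_val x, hψζ, h1, one_pow]
    rfl
  have hprim : IsPrimitiveRoot ζ p := by
    have h1 : orderOf ζ = p := orderOf_eq_prime hζp hζ1
    rw [← h1]
    exact IsPrimitiveRoot.orderOf ζ
  let P : ℚ[X] := ∑ n ∈ range p, C (f (n : ZMod p)) * X ^ n
  have hcoeff : ∀ n < p, P.coeff n = f (n : ZMod p) := by
    intro n hn
    rw [Polynomial.finsetSum_coeff, Finset.sum_eq_single n]
    · rw [Polynomial.coeff_C_mul_X_pow, if_pos rfl]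
    · intro m _ hm
      rw [Polynomial.coeff_C_mul_X_pow, if_neg (Ne.symm hm)]
    · intro hn'
      exact absurd (Finset.mem_range.2 hn) hn'
  have hP0 : Polynomial.aeval ζ P = 0 := by
    simp only [P, map_sum, map_mul, Polynomial.aeval_C, map_pow, Polynomial.aeval_X]
    rw [← h, ev]
    have h2 : ∀ j : ZMod p, (f j : ℂ) * ψ j = (algebraMap ℚ ℂ (f ((j.val : ℕ) : ZMod p))) * ζ ^ j.val := by
      intro j
      rw [← hψζ, ZMod.natCast_zmod_val]
      rfl
    rw [Finset.sum_congr rfl fun j _ => h2 j]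
    symm
    refine Finset.sum_bij' (fun (j : ZMod p) _ => j.val) (fun n _ => (n : ZMod p)) ?_ ?_ ?_ ?_ ?_
    · intro j _
      exact Finset.mem_range.2 (ZMod.val_lt j)
    · intro n _
      exact Finset.mem_univ _
    · intro j _
      exact ZMod.natCast_zmod_val j
    · intro n hn
      exact ZMod.val_cast_of_lt (Finset.mem_range.1 hn)
    · intro j _
      rfl
  have hdvd : cyclotomic p ℚ ∣ P := by
    rw [Polynomial.cyclotomic_eq_minpoly_rat hprim hp.pos]
    exact minpoly.dvd ℚ ζ hP0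
  obtain ⟨R, hR⟩ := hdvd
  have hPdeg : P.natDegree ≤ p - 1 := by
    apply Polynomial.natDegree_sum_le_of_forall_le
    intro n hn
    refine (Polynomial.natDegree_C_mul_X_pow_le _ _).trans ?_
    have := Finset.mem_range.1 hn
    omega
  have hRC : ∃ c : ℚ, R = C c := by
    by_cases hR0 : R = 0
    · exact ⟨0, by rw [hR0, C_0]⟩
    · refine ⟨R.coeff 0, Polynomial.eq_C_of_natDegree_eq_zero ?_⟩
      have h3 := congrArg Polynomial.natDegree hR
      rw [Polynomial.natDegree_mul (Polynomial.cyclotomic_ne_zero p ℚ) hR0, Polynomial.natDegree_cyclotomic,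
        Nat.totient_prime hp] at h3
      omega
  obtain ⟨c, rfl⟩ := hRC
  have hfin : ∀ x : ZMod p, f x = c := by
    intro x
    have h3 := hcoeff x.val (ZMod.val_lt x)
    rw [ZMod.natCast_zmod_val] at h3
    rw [← h3, hR, Polynomial.coeff_mul_C, Polynomial.cyclotomic_prime, Polynomial.finsetSum_coeff]
    have h4 : ∑ n ∈ range p, (X ^ n : ℚ[X]).coeff x.val = 1 := by
      rw [Finset.sum_eq_single x.val]
      · rw [Polynomial.coeff_X_pow, if_pos rfl]
      · intro m _ hm
        rw [Polynomial.coeff_X_pow, if_neg (Ne.symm hm)]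
      · intro hn'
        exact absurd (Finset.mem_range.2 (ZMod.val_lt x)) hn'
    rw [h4, one_mul]
  rw [hfin i, hfin j]

theorem zero_of_ev (ψ : AddChar (ZMod p) ℂ) (hψ : ψ ≠ 1) (f : ZMod p → ℚ) (h : ev ψ f = 0) (hs : ∑ j, f j = 0) :
    f = 0 := by
  have h1 := const_of_ev ψ hψ f h
  have hp : p.Prime := Fact.out
  funext j
  have h2 : ∑ i, f i = p * f j := by
    rw [Finset.sum_congr rfl fun i _ => h1 i j, Finset.sum_const, Finset.card_univ, ZMod.card, nsmul_eq_mul]
  rw [hs] at h2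
  have h3 : (p : ℚ) ≠ 0 := by exact_mod_cast hp.ne_zero
  exact (mul_eq_zero.1 h2.symm).resolve_left h3

theorem exists_char : ∃ ψ : AddChar (ZMod p) ℂ, ψ ≠ 1 := by
  refine ⟨ZMod.stdAddChar, ?_⟩
  intro h
  have h1 := ZMod.isPrimitive_stdAddChar p (a := 1) one_ne_zero
  apply h1
  rw [h]
  ext x
  simp

end H15.TwoP
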