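import Cfsg.Agent.Lib.H15.TwoP1

set_option autoImplicit false
set_option linter.unusedSectionVars false

/-! Primitive groups of degree `2p`, part two: invariant matrices. -/

namespace H15.TwoP

open Finset

variable {p : ℕ} [Fact p.Prime] {G Ω : Type*} [Group G] [Fintype Ω] [DecidableEq Ω] [MulAction G Ω]

/-- the set-up -/
structure Setup (p : ℕ) [Fact p.Prime] (G Ω : Type*) [Group G] [Fintype Ω] [DecidableEq Ω] [MulAction G Ω] where
  e : Bool × ZMod p ≃ Ω
  x : G
  hx : ∀ b j, x • e (b, j) = e (b, j + 1)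
  trans : ∀ s t : Ω, ∃ g : G, g • s = t
  g0 : G
  hg0 : (∃ s, (e.symm (g0 • s)).1 ≠ (e.symm s).1) ∧ (∃ s, (e.symm (g0 • s)).1 ≠ !(e.symm s).1)

/-- invariant matrices -/
def Inv (G : Type*) {Ω : Type*} [Group G] [MulAction G Ω] (A : Ω → Ω → ℚ) : Prop :=
  ∀ (g : G) s t, A (g • s) (g • t) = A s t

/-- product -/
def mulM (A B : Ω → Ω → ℚ) (s t : Ω) : ℚ := ∑ z, A s z * B z t

theorem mulM_inv {A B : Ω → Ω → ℚ} (hA : Inv G A) (hB : Inv G B) : Inv G (mulM A B) := by
  intro g s t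
  rw [mulM, mulM]
  refine (Fintype.sum_equiv (MulAction.toPerm g) _ _ fun z => ?_).symm
  rw [MulAction.toPerm_apply, hA, hB]

namespace Setup

variable (S : Setup p G Ω)

theorem pow_smul (n : ℕ) (b : Bool) (j : ZMod p) : S.x ^ n • S.e (b, j) = S.e (b, j + n) := by
  induction n with
  | zero => simp
  | succ n ih =>
    rw [pow_succ', mul_smul, ih, S.hx]
    congr 2
    push_cast
    ring

/-- blocks -/
def blk (A : Ω → Ω → ℚ) (b c : Bool) (j : ZMod p) : ℚ := A (S.e (b, 0)) (S.e (c, j))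

theorem eq_blk {A : Ω → Ω → ℚ} (hA : Inv G A) (b c : Bool) (i j : ZMod p) :
    A (S.e (b, i)) (S.e (c, j)) = S.blk A b c (j - i) := by
  have h1 := hA (S.x ^ i.val) (S.e (b, 0)) (S.e (c, j - i))
  rw [S.pow_smul, S.pow_smul, ZMod.natCast_zmod_val, zero_add, sub_add_cancel] at h1
  exact h1

theorem sum_e (f : Ω → ℚ) : ∑ t, f t = ∑ b, ∑ j, f (S.e (b, j)) := by
  rw [← Fintype.sum_prod_type', Fintype.sum_equiv S.e (fun t => f (S.e t)) f (fun _ => rfl)]

theorem blk_mul {A B : Ω → Ω → ℚ} (hB : Inv G B) (b c : Bool) :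
    S.blk (mulM A B) b c = ∑ d, conv (S.blk A b d) (S.blk B d c) := by
  funext j
  rw [Finset.sum_apply, blk, mulM, S.sum_e]
  refine Finset.sum_congr rfl fun d _ => ?_
  rw [conv]
  refine Finset.sum_congr rfl fun i _ => ?_
  rw [S.eq_blk hB]
  rfl

/-- row sum -/
def n (A : Ω → Ω → ℚ) : ℚ := ∑ t, A (S.e (true, 0)) t

theorem row_sum {A : Ω → Ω → ℚ} (hA : Inv G A) (s : Ω) : ∑ t, A s t = S.n A := by
  obtain ⟨g, hg⟩ := S.trans (S.e (true, 0)) s
  rw [n, ← hg]
  exact (Fintype.sum_equiv (MulAction.toPerm g) _ _ fun z => by rw [MulAction.toPerm_apply, hA]).symm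

include S in
theorem two_p : Fintype.card Ω = 2 * p := by
  rw [← Fintype.card_congr S.e, Fintype.card_prod, ZMod.card, Fintype.card_bool]

theorem col_sum {A : Ω → Ω → ℚ} (hA : Inv G A) (t : Ω) : ∑ s, A s t = S.n A := by
  have h1 : ∀ t t' : Ω, ∑ s, A s t = ∑ s, A s t' := by
    intro t t'
    obtain ⟨g, hg⟩ := S.trans t t'
    rw [← hg]
    exact Fintype.sum_equiv (MulAction.toPerm g) _ _ fun z => by rw [MulAction.toPerm_apply, hA]
  have h2 : ∑ t', ∑ s, A s t' = ∑ t' : Ω, ∑ s, A s t := Finset.sum_congr rfl fun t' _ => h1 t' t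
  rw [Finset.sum_comm, Finset.sum_congr rfl fun s _ => S.row_sum hA s, Finset.sum_const, Finset.sum_const,
    Finset.card_univ, nsmul_eq_mul, nsmul_eq_mul] at h2
  have h3 : ((Fintype.card Ω : ℕ) : ℚ) ≠ 0 := by
    rw [S.two_p]
    have hp : p.Prime := Fact.out
    have := hp.pos
    exact_mod_cast (by omega : 2 * p ≠ 0)
  exact (mul_left_cancel₀ h3 h2).symm

/-- the sign vector -/
def sg (b : Bool) : ℚ := if b then 1 else -1

theorem sg_not (b : Bool) : sg (!b) = - sg b := by cases b <;> simp [sg]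

theorem sg_sq (b : Bool) : sg b * sg b = 1 := by cases b <;> simp [sg]

theorem sg_inj {b c : Bool} (h : sg b = sg c) : b = c := by
  cases b <;> cases c <;> simp [sg] at h ⊢ <;> norm_num at h

/-- the vector `v` -/
def v (s : Ω) : ℚ := sg (S.e.symm s).1

theorem v_e (b : Bool) (j : ZMod p) : S.v (S.e (b, j)) = sg b := by
  rw [v, Equiv.symm_apply_apply]

theorem v_sq (s : Ω) : S.v s * S.v s = 1 := sg_sq _

theorem sum_v : ∑ s, S.v s = 0 := by
  rw [S.sum_e]
  simp only [v_e, Fintype.sum_bool, Finset.sum_const]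
  simp [sg]

theorem sum_gv (g : G) : ∑ s, S.v (g • s) = 0 := by
  rw [← S.sum_v]
  exact Fintype.sum_equiv (MulAction.toPerm g) _ _ fun z => rfl

/-- the eigenvalue on `v` -/
def al (A : Ω → Ω → ℚ) : ℚ := ∑ t, A (S.e (true, 0)) t * S.v t

theorem mul_v {A : Ω → Ω → ℚ} (hA : Inv G A) (s : Ω) : ∑ t, A s t * S.v t = S.al A * S.v s := by
  have hp : p.Prime := Fact.out
  have h1 : ∀ b i, ∑ t, A (S.e (b, i)) t * S.v t = ∑ t, A (S.e (b, 0)) t * S.v t := by
    intro b i
    rw [S.sum_e, S.sum_e]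
    refine Finset.sum_congr rfl fun c _ => ?_
    have h2 : ∀ j, A (S.e (b, i)) (S.e (c, j)) * S.v (S.e (c, j)) = S.blk A b c (j - i) * sg c := by
      intro j
      rw [S.eq_blk hA, v_e]
    have h3 : ∀ j, A (S.e (b, 0)) (S.e (c, j)) * S.v (S.e (c, j)) = S.blk A b c j * sg c := by
      intro j
      rw [v_e]; rfl
    rw [Finset.sum_congr rfl fun j _ => h2 j, Finset.sum_congr rfl fun j _ => h3 j]
    exact Fintype.sum_equiv (Equiv.subRight i) _ _ fun j => rfl
  have h2 : ∑ s, ∑ t, A s t * S.v t = 0 := by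
    rw [Finset.sum_comm]
    have h3 : ∀ t, ∑ s, A s t * S.v t = S.n A * S.v t := by
      intro t
      rw [← Finset.sum_mul, S.col_sum hA]
    rw [Finset.sum_congr rfl fun t _ => h3 t, ← Finset.mul_sum, S.sum_v, mul_zero]
  rw [S.sum_e] at h2
  rw [Finset.sum_congr rfl fun b _ => Finset.sum_congr rfl fun i _ => h1 b i] at h2
  simp only [Finset.sum_const, Finset.card_univ, ZMod.card, nsmul_eq_mul, Fintype.sum_bool] at h2
  have h3 : (p : ℚ) ≠ 0 := by exact_mod_cast hp.ne_zero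
  have h4 : ∑ t, A (S.e (false, 0)) t * S.v t = - S.al A := by
    have h5 : (p : ℚ) * (∑ t, A (S.e (true, 0)) t * S.v t + ∑ t, A (S.e (false, 0)) t * S.v t) = 0 := by
      rw [mul_add]; exact h2
    have h6 := (mul_eq_zero.1 h5).resolve_left h3
    rw [al]
    linarith
  obtain ⟨⟨b, i⟩, rfl⟩ := S.e.surjective s
  rw [h1, v_e]
  cases b
  · rw [h4]; simp [sg]
  · simp [sg, al]

theorem mul_gv {A : Ω → Ω → ℚ} (hA : Inv G A) (g : G) (s : Ω) :
    ∑ t, A s t * S.v (g • t) = S.al A * S.v (g • s) := by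
  rw [← S.mul_v hA (g • s)]
  exact Fintype.sum_equiv (MulAction.toPerm g) _ _ fun z => by rw [MulAction.toPerm_apply, hA]

theorem al_mul {A B : Ω → Ω → ℚ} (hA : Inv G A) (hB : Inv G B) : S.al (mulM A B) = S.al A * S.al B := by
  have h1 := S.mul_v (mulM_inv hA hB) (S.e (true, 0))
  have h2 : ∑ t, mulM A B (S.e (true, 0)) t * S.v t = S.al A * S.al B * S.v (S.e (true, 0)) := by
    simp only [mulM, Finset.sum_mul]
    rw [Finset.sum_comm]
    have h3 : ∀ z, ∑ t, A (S.e (true, 0)) z * B z t * S.v t = A (S.e (true, 0)) z * S.v z * S.al B := by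
      intro z
      have h4 := S.mul_v hB z
      calc ∑ t, A (S.e (true, 0)) z * B z t * S.v t = A (S.e (true, 0)) z * ∑ t, B z t * S.v t := by
            rw [Finset.mul_sum]
            exact Finset.sum_congr rfl fun t _ => by ring
        _ = _ := by rw [h4]; ring
    rw [Finset.sum_congr rfl fun z _ => h3 z, ← Finset.sum_mul, S.mul_v hA]
    ring
  rw [h2, v_e] at h1
  simp [sg] at h1
  exact h1.symm

theorem n_mul {A B : Ω → Ω → ℚ} (hB : Inv G B) : S.n (mulM A B) = S.n A * S.n B := by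
  rw [n]
  simp only [mulM]
  rw [Finset.sum_comm]
  have h3 : ∀ z, ∑ t, A (S.e (true, 0)) z * B z t = A (S.e (true, 0)) z * S.n B := by
    intro z
    rw [← Finset.mul_sum, S.row_sum hB]
  rw [Finset.sum_congr rfl fun z _ => h3 z, ← Finset.sum_mul]
  rfl

theorem sum_blk {A : Ω → Ω → ℚ} (hA : Inv G A) (b : Bool) : 2 * ∑ j, S.blk A b b j = S.n A + S.al A := by
  have h1 := S.row_sum hA (S.e (b, 0))
  have h2 := S.mul_v hA (S.e (b, 0))
  rw [S.sum_e] at h1 h2
  simp only [v_e, Fintype.sum_bool, ← Finset.sum_mul] at h1 h2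
  cases b
  · simp [sg] at h1 h2
    change 2 * ∑ j, A (S.e (false, 0)) (S.e (false, j)) = _
    linarith
  · simp [sg] at h1 h2
    change 2 * ∑ j, A (S.e (true, 0)) (S.e (true, j)) = _
    linarith

end Setup

end H15.TwoP
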