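import Cfsg.Agent.Lib.H15.TwoP2

set_option autoImplicit false
set_option linter.unusedSectionVars false

/-! Primitive groups of degree `2p`, part three: the homomorphism `rho`. -/

namespace H15.TwoP

open Finset

variable {p : ℕ} [Fact p.Prime] {G Ω : Type*} [Group G] [Fintype Ω] [DecidableEq Ω] [MulAction G Ω]

namespace Setup

variable (S : Setup p G Ω)

/-- the vector `g0 v`, blockwise -/
def h (b : Bool) (i : ZMod p) : ℚ := S.v (S.g0 • S.e (b, -i))

theorem conv_h {A : Ω → Ω → ℚ} (hA : Inv G A) (b : Bool) :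
    ∑ c, conv (S.blk A b c) (S.h c) = S.al A • S.h b := by
  funext j
  rw [Finset.sum_apply, Pi.smul_apply, smul_eq_mul]
  have h1 := S.mul_gv hA S.g0 (S.e (b, -j))
  rw [h, ← h1, S.sum_e]
  refine Finset.sum_congr rfl fun c _ => ?_
  rw [conv]
  refine Fintype.sum_equiv (Equiv.subRight j) _ _ fun i => ?_
  rw [Equiv.subRight_apply, S.eq_blk hA, h]
  congr 2
  · ring
  · rw [neg_sub]

/-- the transform -/
noncomputable def hat (ψ : AddChar (ZMod p) ℂ) (A : Ω → Ω → ℚ) (b c : Bool) : ℂ := ev ψ (S.blk A b c)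

theorem hat_mul (ψ : AddChar (ZMod p) ℂ) {A B : Ω → Ω → ℚ} (hB : Inv G B) (b c : Bool) :
    S.hat ψ (mulM A B) b c = ∑ d, S.hat ψ A b d * S.hat ψ B d c := by
  rw [hat, S.blk_mul hB, Fintype.sum_bool, Fintype.sum_bool, ev_add, ev_conv, ev_conv]
  rfl

theorem hat_h (ψ : AddChar (ZMod p) ℂ) {A : Ω → Ω → ℚ} (hA : Inv G A) (b : Bool) :
    S.hat ψ A b true * ev ψ (S.h true) + S.hat ψ A b false * ev ψ (S.h false) = (S.al A : ℂ) * ev ψ (S.h b) := by
  have h1 := congrArg (ev ψ) (S.conv_h hA b)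
  rw [Fintype.sum_bool, ev_add, ev_conv, ev_conv, ev_smul] at h1
  exact h1

theorem w_ne (ψ : AddChar (ZMod p) ℂ) (hψ : ψ ≠ 1) : ev ψ (S.h true) ≠ 0 ∨ ev ψ (S.h false) ≠ 0 := by
  by_contra hcon
  push Not at hcon
  have hp : p.Prime := Fact.out
  have h3 : (p : ℚ) ≠ 0 := by exact_mod_cast hp.ne_zero
  have hb : ∀ b i j, S.h b i = S.h b j := by
    intro b
    cases b
    · exact const_of_ev ψ hψ _ hcon.2
    · exact const_of_ev ψ hψ _ hcon.1
  have hb' : ∀ b i, S.v (S.g0 • S.e (b, i)) = S.h b 0 := by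
    intro b i
    rw [← hb b (-i) 0, h, neg_neg]
  have h4 := S.sum_gv S.g0
  rw [S.sum_e] at h4
  rw [Finset.sum_congr rfl fun b _ => Finset.sum_congr rfl fun i _ => hb' b i] at h4
  simp only [Finset.sum_const, Finset.card_univ, ZMod.card, nsmul_eq_mul, Fintype.sum_bool] at h4
  rw [← mul_add] at h4
  have h5 := (mul_eq_zero.1 h4).resolve_left h3
  -- h true 0 is a sign
  have h6 : S.h true 0 = 1 ∨ S.h true 0 = -1 := by
    have : S.h true 0 * S.h true 0 = 1 := S.v_sq _
    have h7 : (S.h true 0 - 1) * (S.h true 0 + 1) = 0 := by linarith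
    rcases mul_eq_zero.1 h7 with h8 | h8
    · left; linarith
    · right; linarith
  obtain ⟨⟨s, hs⟩, ⟨t, ht⟩⟩ := S.hg0
  rcases h6 with h6 | h6
  · apply hs
    obtain ⟨⟨b, i⟩, rfl⟩ := S.e.surjective s
    apply sg_inj
    change S.v _ = sg _
    rw [hb', Equiv.symm_apply_apply]
    cases b
    · change S.h false 0 = -1
      linarith
    · exact h6
  · apply ht
    obtain ⟨⟨b, i⟩, rfl⟩ := S.e.surjective t
    apply sg_inj
    change S.v _ = sg _
    rw [hb', Equiv.symm_apply_apply]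
    cases b
    · change S.h false 0 = 1
      linarith
    · exact h6

/-- the eigenvalue -/
noncomputable def theta (ψ : AddChar (ZMod p) ℂ) (A : Ω → Ω → ℚ) : ℂ :=
  S.hat ψ A true true + S.hat ψ A false false - (S.al A : ℂ)

theorem phi (ψ : AddChar (ZMod p) ℂ) {A : Ω → Ω → ℚ} (hA : Inv G A) (c : Bool) :
    (- ev ψ (S.h false)) * S.hat ψ A true c + ev ψ (S.h true) * S.hat ψ A false c =
      S.theta ψ A * (if c then - ev ψ (S.h false) else ev ψ (S.h true)) := by
  have h1 := S.hat_h ψ hA true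
  have h2 := S.hat_h ψ hA false
  rw [theta]
  cases c
  · simp only [Bool.false_eq_true, if_false]
    linear_combination -h1
  · simp only [if_true]
    linear_combination h2

theorem theta_mul (ψ : AddChar (ZMod p) ℂ) (hψ : ψ ≠ 1) {A B : Ω → Ω → ℚ} (hA : Inv G A) (hB : Inv G B) :
    S.theta ψ (mulM A B) = S.theta ψ A * S.theta ψ B := by
  have key : ∀ c : Bool, S.theta ψ (mulM A B) * (if c then - ev ψ (S.h false) else ev ψ (S.h true)) =
      S.theta ψ A * S.theta ψ B * (if c then - ev ψ (S.h false) else ev ψ (S.h true)) := by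
    intro c
    rw [← S.phi ψ (mulM_inv hA hB), S.hat_mul ψ hB, S.hat_mul ψ hB, Fintype.sum_bool, Fintype.sum_bool, mul_assoc,
      ← S.phi ψ hB c]
    have h1 := S.phi ψ hA true
    have h2 := S.phi ψ hA false
    simp only [if_true, Bool.false_eq_true, if_false] at h1 h2
    linear_combination (S.hat ψ B true c) * h1 + (S.hat ψ B false c) * h2
  rcases S.w_ne ψ hψ with h1 | h1
  · have h2 := key false
    simp only [Bool.false_eq_true, if_false] at h2
    exact mul_right_cancel₀ h1 h2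
  · have h2 := key true
    simp only [if_true] at h2
    exact mul_right_cancel₀ (neg_ne_zero.2 h1) h2

/-- the diagonal -/
def tau (A : Ω → Ω → ℚ) (j : ZMod p) : ℚ := S.blk A true true j + S.blk A false false j

/-- the homomorphism -/
def rho (A : Ω → Ω → ℚ) (j : ZMod p) : ℚ := S.tau A j - (if j = 0 then S.al A else 0)

theorem ev_tau (ψ : AddChar (ZMod p) ℂ) (A : Ω → Ω → ℚ) :
    ev ψ (S.tau A) = S.theta ψ A + (S.al A : ℂ) := by
  have : S.tau A = S.blk A true true + S.blk A false false := rfl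
  rw [this, ev_add, theta, hat, hat]
  ring

theorem ev_single (ψ : AddChar (ZMod p) ℂ) (c : ℚ) : ev ψ (fun j : ZMod p => if j = 0 then c else 0) = c := by
  rw [ev, Finset.sum_eq_single 0]
  · rw [if_pos rfl, AddChar.map_zero_eq_one, mul_one]
  · intro j _ hj
    rw [if_neg hj]; simp
  · intro h
    exact absurd (Finset.mem_univ _) h

theorem ev_rho (ψ : AddChar (ZMod p) ℂ) (A : Ω → Ω → ℚ) : ev ψ (S.rho A) = S.theta ψ A := by
  have : S.rho A = S.tau A - (fun j : ZMod p => if j = 0 then S.al A else 0) := rfl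
  rw [this, ev_sub, ev_single, ev_tau]
  ring

theorem sum_tau {A : Ω → Ω → ℚ} (hA : Inv G A) : ∑ j, S.tau A j = S.n A + S.al A := by
  have h1 := S.sum_blk hA true
  have h2 := S.sum_blk hA false
  simp only [tau, Finset.sum_add_distrib]
  linarith

theorem sum_rho {A : Ω → Ω → ℚ} (hA : Inv G A) : ∑ j, S.rho A j = S.n A := by
  simp only [rho, Finset.sum_sub_distrib]
  rw [S.sum_tau hA, Finset.sum_ite_eq' Finset.univ (0 : ZMod p), if_pos (Finset.mem_univ _)]
  ring

theorem rho_mul {A B : Ω → Ω → ℚ} (hA : Inv G A) (hB : Inv G B) :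
    S.rho (mulM A B) = conv (S.rho A) (S.rho B) := by
  obtain ⟨ψ, hψ⟩ := exists_char (p := p)
  have h1 : S.rho (mulM A B) - conv (S.rho A) (S.rho B) = 0 := by
    apply zero_of_ev ψ hψ
    · rw [ev_sub, ev_conv, S.ev_rho, S.ev_rho, S.ev_rho, S.theta_mul ψ hψ hA hB, sub_self]
    · simp only [Pi.sub_apply, Finset.sum_sub_distrib]
      rw [sum_conv, S.sum_rho hA, S.sum_rho hB, S.sum_rho (mulM_inv hA hB), S.n_mul hB, sub_self]
  exact sub_eq_zero.1 h1

/-- transposed matrix -/
def tr (A : Ω → Ω → ℚ) (s t : Ω) : ℚ := A t s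

theorem tr_inv {A : Ω → Ω → ℚ} (hA : Inv G A) : Inv G (tr A) := fun g s t => hA g t s

theorem al_tr {A : Ω → Ω → ℚ} (hA : Inv G A) : S.al (tr A) = S.al A := by
  have hp : p.Prime := Fact.out
  have h1 : ∀ B : Ω → Ω → ℚ, Inv G B → ∑ s, S.v s * ∑ t, B s t * S.v t = (2 * p : ℚ) * S.al B := by
    intro B hB
    have h2 : ∀ s, S.v s * ∑ t, B s t * S.v t = S.al B := by
      intro s
      rw [S.mul_v hB]
      have := S.v_sq s
      calc S.v s * (S.al B * S.v s) = S.al B * (S.v s * S.v s) := by ring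
        _ = _ := by rw [this, mul_one]
    rw [Finset.sum_congr rfl fun s _ => h2 s, Finset.sum_const, Finset.card_univ, S.two_p, nsmul_eq_mul]
    push_cast
    ring
  have h2 := h1 A hA
  have h3 := h1 (tr A) (tr_inv hA)
  have h4 : ∑ s, S.v s * ∑ t, tr A s t * S.v t = ∑ s, S.v s * ∑ t, A s t * S.v t := by
    simp only [Finset.mul_sum]
    rw [Finset.sum_comm]
    refine Finset.sum_congr rfl fun s _ => Finset.sum_congr rfl fun t _ => ?_
    rw [tr]; ring
  rw [h2, h3] at h4
  have h5 : (2 * p : ℚ) ≠ 0 := by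
    have := hp.pos
    exact_mod_cast (by omega : 2 * p ≠ 0)
  exact mul_left_cancel₀ h5 h4

theorem blk_tr {A : Ω → Ω → ℚ} (hA : Inv G A) (b c : Bool) (j : ZMod p) : S.blk (tr A) b c j = S.blk A c b (-j) := by
  change A (S.e (c, j)) (S.e (b, 0)) = _
  rw [S.eq_blk hA, zero_sub]

theorem rho_tr {A : Ω → Ω → ℚ} (hA : Inv G A) (j : ZMod p) : S.rho (tr A) j = S.rho A (-j) := by
  rw [rho, rho, tau, tau, S.blk_tr hA, S.blk_tr hA, S.al_tr hA]
  simp only [neg_eq_zero]

/-- the orthogonality relation -/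
theorem orth {A B : Ω → Ω → ℚ} (hA : Inv G A) (hB : Inv G B) :
    ∑ z, A (S.e (true, 0)) z * B (S.e (true, 0)) z + ∑ z, A (S.e (false, 0)) z * B (S.e (false, 0)) z -
      S.al A * S.al B = ∑ j, S.rho A j * S.rho B j := by
  have h1 := congrFun (S.rho_mul hA (tr_inv hB)) 0
  rw [rho, if_pos rfl, S.al_mul hA (tr_inv hB), S.al_tr hB, tau, blk, blk, mulM, mulM, conv] at h1
  simp only [zero_sub, S.rho_tr hB, neg_neg] at h1
  exact h1

end Setup

end H15.TwoP
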