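import Cfsg.Agent.Lib.H15.TwoP3

set_option autoImplicit false
set_option linter.unusedSectionVars false

/-! Primitive groups of degree `2p`, part four: orbitals. -/

namespace H15.TwoP

open Finset

variable {p : ℕ} [Fact p.Prime] {G Ω : Type*} [Group G] [Fintype Ω] [DecidableEq Ω] [MulAction G Ω]

/-- orbitals -/
abbrev Q (G Ω : Type*) [Group G] [MulAction G Ω] := MulAction.orbitRel.Quotient G (Ω × Ω)

/-- the orbital of a pair -/
def ty (G : Type*) {Ω : Type*} [Group G] [MulAction G Ω] (s t : Ω) : Q G Ω := Quotient.mk'' (s, t)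

omit [Fintype Ω] [DecidableEq Ω] in
theorem ty_smul (g : G) (s t : Ω) : ty G (g • s) (g • t) = ty G s t := by
  apply Quotient.sound'
  exact ⟨g, rfl⟩

omit [Fintype Ω] [DecidableEq Ω] in
theorem ty_eq {s t s' t' : Ω} (h : ty G s t = ty G s' t') : ∃ g : G, g • s' = s ∧ g • t' = t := by
  have h1 := Quotient.exact' h
  obtain ⟨g, hg⟩ := h1
  exact ⟨g, congrArg Prod.fst hg, congrArg Prod.snd hg⟩

omit [Fintype Ω] [DecidableEq Ω] in
theorem ty_surj (q : Q G Ω) : ∃ s t, ty G s t = q := by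
  obtain ⟨⟨s, t⟩, h⟩ := Quotient.exists_rep q
  exact ⟨s, t, h⟩

open Classical in
/-- the matrix of an orbital -/
noncomputable def M (q : Q G Ω) (s t : Ω) : ℚ := if ty G s t = q then 1 else 0

theorem M_inv (q : Q G Ω) : Inv G (M q) := by
  intro g s t
  rw [M, M, ty_smul]

theorem M_sq (q : Q G Ω) (s t : Ω) : M q s t * M q s t = M q s t := by
  rw [M]
  split_ifs <;> simp

theorem M_mul_ne {q l : Q G Ω} (h : q ≠ l) (s t : Ω) : M q s t * M l s t = 0 := by
  rw [M, M]
  split_ifs with h1 h2 <;> simp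
  exact h (h1.symm.trans h2)

theorem M_nonneg (q : Q G Ω) (s t : Ω) : 0 ≤ M q s t := by
  rw [M]
  split_ifs <;> simp

theorem M_int (q : Q G Ω) (s t : Ω) : ∃ k : ℤ, M q s t = k := by
  rw [M]
  split_ifs
  · exact ⟨1, by simp⟩
  · exact ⟨0, by simp⟩

variable [Finite G]

theorem finQ : Finite (Q G Ω) := inferInstance

open Classical in
theorem sum_M (s t : Ω) (f : Q G Ω → ℚ) [Fintype (Q G Ω)] : ∑ q, f q * M q s t = f (ty G s t) := by
  rw [Finset.sum_eq_single (ty G s t)]
  · rw [M, if_pos rfl, mul_one]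
  · intro q _ hq
    rw [M, if_neg (Ne.symm hq), mul_zero]
  · intro h
    exact absurd (Finset.mem_univ _) h

/-- every invariant matrix is a function of the orbital -/
theorem inv_val {A : Ω → Ω → ℚ} (hA : Inv G A) : ∃ f : Q G Ω → ℚ, ∀ s t, A s t = f (ty G s t) := by
  classical
  choose s0 t0 hst using ty_surj (G := G) (Ω := Ω)
  refine ⟨fun q => A (s0 q) (t0 q), fun s t => ?_⟩
  obtain ⟨g, h2, h3⟩ := ty_eq (hst (ty G s t))
  simp only
  rw [← h2, ← h3, hA]

namespace Setup

variable (S : Setup p G Ω)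

/-- the diagonal orbital -/
def q0 : Q G Ω := ty G (S.e (true, 0)) (S.e (true, 0))

theorem ty_self (s : Ω) : ty G s s = S.q0 := by
  obtain ⟨g, hg⟩ := S.trans (S.e (true, 0)) s
  rw [q0, ← hg, ty_smul]

theorem ty_eq_q0 {s t : Ω} : ty G s t = S.q0 ↔ s = t := by
  constructor
  · intro h
    obtain ⟨g, h1, h2⟩ := ty_eq h
    rw [← h1, ← h2]
  · rintro rfl
    exact S.ty_self s

theorem al_M_int (q : Q G Ω) : ∃ k : ℤ, S.al (M q) = k := by
  classical
  have h1 : ∀ t, ∃ k : ℤ, M q (S.e (true, 0)) t * S.v t = k := by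
    intro t
    obtain ⟨k, hk⟩ := M_int q (S.e (true, 0)) t
    rw [hk, v, sg]
    split_ifs
    · exact ⟨k, by simp⟩
    · exact ⟨-k, by simp⟩
  choose k hk using h1
  refine ⟨∑ t, k t, ?_⟩
  rw [al, Finset.sum_congr rfl fun t _ => hk t]
  push_cast
  rfl

theorem al_q0 : S.al (M S.q0) = 1 := by
  classical
  rw [al, Finset.sum_eq_single (S.e (true, 0))]
  · rw [M, if_pos (S.ty_self _), v_e]
    simp [sg]
  · intro t _ ht
    rw [M, if_neg, zero_mul]
    intro h
    exact ht (S.ty_eq_q0.1 h).symm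
  · intro h
    exact absurd (Finset.mem_univ _) h

theorem n_q0 : S.n (M S.q0) = 1 := by
  classical
  rw [n, Finset.sum_eq_single (S.e (true, 0))]
  · rw [M, if_pos (S.ty_self _)]
  · intro t _ ht
    rw [M, if_neg]
    intro h
    exact ht (S.ty_eq_q0.1 h).symm
  · intro h
    exact absurd (Finset.mem_univ _) h

theorem sum_al [Fintype (Q G Ω)] : ∑ q : Q G Ω, S.al (M q) = 0 := by
  simp only [al]
  rw [Finset.sum_comm]
  have h1 : ∀ t, ∑ q : Q G Ω, M q (S.e (true, 0)) t * S.v t = S.v t := by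
    intro t
    have := sum_M (G := G) (S.e (true, 0)) t (fun _ => 1)
    simp only [one_mul] at this
    rw [← Finset.sum_mul, this, one_mul]
  rw [Finset.sum_congr rfl fun t _ => h1 t, S.sum_v]

theorem sum_n [Fintype (Q G Ω)] : ∑ q : Q G Ω, S.n (M q) = 2 * p := by
  simp only [n]
  rw [Finset.sum_comm]
  have h1 : ∀ t, ∑ q : Q G Ω, M q (S.e (true, 0)) t = 1 := by
    intro t
    have := sum_M (G := G) (S.e (true, 0)) t (fun _ => 1)
    simpa only [one_mul] using this
  rw [Finset.sum_congr rfl fun t _ => h1 t, Finset.sum_const, Finset.card_univ, S.two_p]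
  simp

theorem n_pos (q : Q G Ω) : 0 < S.n (M q) := by
  classical
  obtain ⟨s, t, hst⟩ := ty_surj q
  rw [← S.row_sum (M_inv q) s]
  apply Finset.sum_pos'
  · exact fun i _ => M_nonneg q s i
  · exact ⟨t, Finset.mem_univ _, by rw [M, if_pos hst]; norm_num⟩

/-- relation -/
theorem al_expand [Fintype (Q G Ω)] (f : Q G Ω → ℚ) :
    S.al (fun s t => f (ty G s t)) = ∑ q, f q * S.al (M q) := by
  simp only [al, Finset.mul_sum]
  rw [Finset.sum_comm]
  refine Finset.sum_congr rfl fun t _ => ?_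
  have := sum_M (G := G) (S.e (true, 0)) t f
  rw [← this, Finset.sum_mul]
  exact Finset.sum_congr rfl fun q _ => by ring

/-- types in the diagonal blocks -/
def qt (b : Bool) (j : ZMod p) : Q G Ω := ty G (S.e (b, 0)) (S.e (b, j))

theorem qt_ne {b : Bool} {j : ZMod p} (hj : j ≠ 0) : S.qt b j ≠ S.q0 := by
  intro h
  have h1 := S.ty_eq_q0.1 h
  have h2 := S.e.injective h1
  exact hj (congrArg Prod.snd h2).symm

open Classical in
theorem tau_M (q : Q G Ω) (j : ZMod p) :
    S.tau (M q) j = (if S.qt true j = q then 1 else 0) + (if S.qt false j = q then 1 else 0) := rfl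

theorem tau_zero {q : Q G Ω} (hq : q ≠ S.q0) : S.tau (M q) 0 = 0 := by
  classical
  rw [S.tau_M, if_neg, if_neg]
  · simp
  · intro h
    exact hq (h.symm.trans (S.ty_self _))
  · intro h
    exact hq (h.symm.trans (S.ty_self _))

theorem orth_ne {q l : Q G Ω} (hq : q ≠ S.q0) (hl : l ≠ S.q0) (hql : q ≠ l) :
    ∑ j ∈ univ.erase (0 : ZMod p), S.tau (M q) j * S.tau (M l) j = - 2 * (S.al (M q) * S.al (M l)) := by
  classical
  have h1 := S.orth (M_inv q) (M_inv l)
  rw [Finset.sum_eq_zero fun z _ => M_mul_ne hql _ z, Finset.sum_eq_zero fun z _ => M_mul_ne hql _ z,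
    ← Finset.add_sum_erase _ _ (Finset.mem_univ (0 : ZMod p))] at h1
  have h2 : S.rho (M q) 0 * S.rho (M l) 0 = S.al (M q) * S.al (M l) := by
    rw [rho, rho, if_pos rfl, if_pos rfl, S.tau_zero hq, S.tau_zero hl]; ring
  have h3 : ∑ j ∈ univ.erase (0 : ZMod p), S.rho (M q) j * S.rho (M l) j =
      ∑ j ∈ univ.erase (0 : ZMod p), S.tau (M q) j * S.tau (M l) j := by
    refine Finset.sum_congr rfl fun j hj => ?_
    rw [rho, rho, if_neg (Finset.ne_of_mem_erase hj), if_neg (Finset.ne_of_mem_erase hj), sub_zero, sub_zero]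
  rw [h2, h3] at h1
  linarith

theorem orth_eq {q : Q G Ω} (hq : q ≠ S.q0) :
    ∑ j ∈ univ.erase (0 : ZMod p), S.tau (M q) j * S.tau (M q) j =
      2 * S.n (M q) - 2 * (S.al (M q) * S.al (M q)) := by
  classical
  have h1 := S.orth (M_inv q) (M_inv q)
  rw [Finset.sum_congr rfl fun z _ => M_sq q _ z, Finset.sum_congr rfl fun z _ => M_sq q (S.e (false, 0)) z,
    S.row_sum (M_inv q), S.row_sum (M_inv q), ← Finset.add_sum_erase _ _ (Finset.mem_univ (0 : ZMod p))] at h1
  have h2 : S.rho (M q) 0 * S.rho (M q) 0 = S.al (M q) * S.al (M q) := by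
    rw [rho, if_pos rfl, S.tau_zero hq]; ring
  have h3 : ∑ j ∈ univ.erase (0 : ZMod p), S.rho (M q) j * S.rho (M q) j =
      ∑ j ∈ univ.erase (0 : ZMod p), S.tau (M q) j * S.tau (M q) j := by
    refine Finset.sum_congr rfl fun j hj => ?_
    rw [rho, if_neg (Finset.ne_of_mem_erase hj), sub_zero]
  rw [h2, h3] at h1
  linarith

theorem sum_tau_erase {q : Q G Ω} (hq : q ≠ S.q0) :
    ∑ j ∈ univ.erase (0 : ZMod p), S.tau (M q) j = S.n (M q) + S.al (M q) := by
  rw [← S.sum_tau (M_inv q), ← Finset.add_sum_erase _ _ (Finset.mem_univ (0 : ZMod p)), S.tau_zero hq, zero_add]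

/-- the zonal function -/
noncomputable def F [Fintype G] (s t : Ω) : ℚ := (Fintype.card G : ℚ)⁻¹ * ∑ g : G, S.v (g • s) * S.v (g • t)

theorem F_inv [Fintype G] : Inv G S.F := by
  intro k s t
  rw [F, F]
  congr 1
  exact Fintype.sum_equiv (Equiv.mulRight k) _ _ fun g => by
    rw [Equiv.coe_mulRight, mul_smul, mul_smul]

theorem card_ne [Fintype G] : (Fintype.card G : ℚ) ≠ 0 := by
  have : Fintype.card G ≠ 0 := Fintype.card_ne_zero
  exact_mod_cast this

theorem F_self [Fintype G] (s : Ω) : S.F s s = 1 := by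
  rw [F, Finset.sum_congr rfl fun g _ => S.v_sq _, Finset.sum_const, Finset.card_univ, nsmul_eq_mul, mul_one,
    inv_mul_cancel₀ (card_ne (G := G))]

theorem mul_F [Fintype G] {A : Ω → Ω → ℚ} (hA : Inv G A) : mulM A S.F = fun s t => S.al A * S.F s t := by
  funext s t
  rw [mulM]
  simp only [F]
  have h1 : ∀ z, A s z * ((Fintype.card G : ℚ)⁻¹ * ∑ g : G, S.v (g • z) * S.v (g • t)) =
      (Fintype.card G : ℚ)⁻¹ * ∑ g : G, (A s z * S.v (g • z)) * S.v (g • t) := by
    intro z
    rw [← mul_assoc, mul_comm (A s z), mul_assoc, Finset.mul_sum]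
    congr 1
    exact Finset.sum_congr rfl fun g _ => by ring
  rw [Finset.sum_congr rfl fun z _ => h1 z, ← Finset.mul_sum, Finset.sum_comm]
  have h2 : ∀ g : G, ∑ z, (A s z * S.v (g • z)) * S.v (g • t) = S.al A * (S.v (g • s) * S.v (g • t)) := by
    intro g
    rw [← Finset.sum_mul, S.mul_gv hA]; ring
  rw [Finset.sum_congr rfl fun g _ => h2 g, ← Finset.mul_sum]
  ring

theorem n_F [Fintype G] : S.n S.F = 0 := by
  rw [n]
  simp only [F]
  rw [← Finset.mul_sum, Finset.sum_comm]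
  have h2 : ∀ g : G, ∑ z, S.v (g • S.e (true, 0)) * S.v (g • z) = 0 := by
    intro g
    rw [← Finset.mul_sum, S.sum_gv, mul_zero]
  rw [Finset.sum_congr rfl fun g _ => h2 g, Finset.sum_const_zero, mul_zero]

/-- the value of `F` on an orbital -/
theorem F_val [Fintype G] (s t : Ω) : S.n (M (ty G s t)) * S.F s t = S.al (M (ty G s t)) := by
  classical
  obtain ⟨f, hf⟩ := inv_val S.F_inv
  set q := ty G s t with hq
  have h1 : ∑ z, M q s z * S.F z s = S.al (M q) * S.F s s := congrFun (congrFun (S.mul_F (M_inv q)) s) s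
  have hsymm : ∀ z, S.F z s = S.F s z := by
    intro z
    rw [F, F]
    congr 1
    exact Finset.sum_congr rfl fun g _ => mul_comm _ _
  have h2 : ∀ z, M q s z * S.F z s = M q s z * f q := by
    intro z
    rw [hsymm, hf]
    by_cases h : ty G s z = q
    · rw [h]
    · rw [M, if_neg h, zero_mul, zero_mul]
  rw [Finset.sum_congr rfl fun z _ => h2 z, ← Finset.sum_mul, S.row_sum (M_inv q), S.F_self, mul_one] at h1
  rw [hf, h1]

/-- the basic dichotomy -/
theorem dich [Fintype G] : (∀ j : ZMod p, j ≠ 0 → S.tau S.F j = 0) ∨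
    ∀ q : Q G Ω, q ≠ S.q0 → ∀ j : ZMod p, j ≠ 0 → S.tau (M q) j = - 2 * S.al (M q) := by
  obtain ⟨ψ, hψ⟩ := exists_char (p := p)
  by_cases h : S.theta ψ S.F = 0
  · left
    intro j hj
    have h1 : ev ψ (S.rho S.F) = 0 := by rw [S.ev_rho, h]
    have h2 := zero_of_ev ψ hψ _ h1 (by rw [S.sum_rho S.F_inv, S.n_F])
    have h3 := congrFun h2 j
    rw [rho, if_neg hj, sub_zero] at h3
    exact h3
  · right
    intro q hq j hj
    have h1 := S.theta_mul ψ hψ (M_inv q) S.F_inv
    rw [S.mul_F (M_inv q)] at h1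
    have h2 : S.theta ψ (fun s t => S.al (M q) * S.F s t) = (S.al (M q) : ℂ) * S.theta ψ S.F := by
      have hb : ∀ b c, S.blk (fun s t => S.al (M q) * S.F s t) b c = S.al (M q) • S.blk S.F b c := fun b c => rfl
      have ha : S.al (fun s t => S.al (M q) * S.F s t) = S.al (M q) * S.al S.F := by
        change (∑ t, (S.al (M q) * S.F (S.e (true, 0)) t) * S.v t) =
          S.al (M q) * ∑ t, S.F (S.e (true, 0)) t * S.v t
        rw [Finset.mul_sum]
        exact Finset.sum_congr rfl fun t _ => by ring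
      rw [theta, theta, hat, hat, hb, hb, ev_smul, ev_smul, ha, hat, hat]
      push_cast
      ring
    rw [h2] at h1
    have h3 : S.theta ψ (M q) = (S.al (M q) : ℂ) := (mul_right_cancel₀ h h1).symm
    have h4 := S.ev_tau ψ (M q)
    rw [h3] at h4
    have h5 : ev ψ (S.tau (M q) - (fun j : ZMod p => if j = 0 then 2 * S.al (M q) else 0)) = 0 := by
      rw [ev_sub, ev_single, h4]
      push_cast
      ring
    have h6 := const_of_ev ψ hψ _ h5 j 0
    simp only [Pi.sub_apply, if_neg hj, if_pos, sub_zero, S.tau_zero hq] at h6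
    rw [h6]; ring

end Setup

end H15.TwoP
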