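import Cfsg.Agent.Lib.H15.TwoP4

set_option autoImplicit false
set_option linter.unusedSectionVars false

/-! Primitive groups of degree `2p`, part five: the combinatorial conclusion. -/

namespace H15.TwoP

open Finset

variable {p : ℕ} [Fact p.Prime] {G Ω : Type*} [Group G] [Fintype Ω] [DecidableEq Ω] [MulAction G Ω] [Finite G]

/-- the trivial block lemma -/
theorem all_of_equiv (hprim : MulAction.IsPreprimitive G Ω) (E : Ω → Ω → Prop) (hE : ∀ (g : G) s t, E (g • s) (g • t) ↔ E s t)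
    (hrefl : ∀ s, E s s) (hsymm : ∀ s t, E s t → E t s) (htrans : ∀ s t u, E s t → E t u → E s u)
    (hne : ∃ s t, s ≠ t ∧ E s t) : ∀ s t, E s t := by
  obtain ⟨s, t, hst, hEst⟩ := hne
  let B : Set Ω := {z | E s z}
  have hB : MulAction.IsBlock G B := by
    rw [MulAction.isBlock_iff_smul_eq_or_disjoint]
    intro g
    by_cases h : E s (g • s)
    · left
      ext z
      rw [Set.mem_smul_set_iff_inv_smul_mem]
      change E s (g⁻¹ • z) ↔ E s z
      have h1 : E s (g⁻¹ • z) ↔ E (g • s) z := by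
        rw [← hE g, smul_inv_smul]
      rw [h1]
      exact ⟨fun h2 => htrans _ _ _ h h2, fun h2 => htrans _ _ _ (hsymm _ _ h) h2⟩
    · right
      rw [Set.disjoint_left]
      intro z hz hz'
      rw [Set.mem_smul_set_iff_inv_smul_mem] at hz
      apply h
      have h1 : E (g • s) z := by
        have h2 : E s (g⁻¹ • z) := hz
        rwa [← hE g, smul_inv_smul] at h2
      exact htrans _ _ _ hz' (hsymm _ _ h1)
  have hall : ∀ z, E s z := by
    rcases hprim.isTrivialBlock_of_isBlock hB with h | h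
    · exact absurd (h (show s ∈ B from hrefl s) (show t ∈ B from hEst)) hst
    · intro z
      have : z ∈ B := by rw [h]; trivial
      exact this
  exact fun x y => htrans _ _ _ (hsymm _ _ (hall x)) (hall y)

namespace Setup

variable (S : Setup p G Ω)

open Classical in
/-- the matrix of the non-zero orbitals -/
noncomputable def MP (s t : Ω) : ℚ := if S.al (M (ty G s t)) ≠ 0 then 1 else 0

theorem MP_inv : Inv G S.MP := by
  intro g s t
  rw [MP, MP, ty_smul]

theorem tr_M (s t : Ω) : tr (M (ty G s t)) = M (ty G t s) := by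
  classical
  funext x y
  rw [tr, M, M]
  have h1 : ty G y x = ty G s t ↔ ty G x y = ty G t s := by
    constructor
    · intro h
      obtain ⟨g, h1, h2⟩ := ty_eq h
      rw [← h1, ← h2, ty_smul]
    · intro h
      obtain ⟨g, h1, h2⟩ := ty_eq h
      rw [← h1, ← h2, ty_smul]
  by_cases h : ty G y x = ty G s t
  · rw [if_pos h, if_pos (h1.1 h)]
  · rw [if_neg h, if_neg (fun h2 => h (h1.2 h2))]

theorem al_symm (s t : Ω) : S.al (M (ty G t s)) = S.al (M (ty G s t)) := by
  rw [← S.al_tr (M_inv (ty G s t)), tr_M]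

theorem MP_symm (s t : Ω) : S.MP s t = S.MP t s := by
  rw [MP, MP, S.al_symm]

theorem MP_zero_one (s t : Ω) : S.MP s t = 0 ∨ S.MP s t = 1 := by
  rw [MP]
  split_ifs
  · right; rfl
  · left; rfl

theorem al_MP : S.al S.MP = 0 := by
  classical
  have := Fintype.ofFinite (Q G Ω)
  have h1 := S.al_expand (fun q => if S.al (M q) ≠ 0 then (1 : ℚ) else 0)
  have h2 : S.al S.MP = ∑ q : Q G Ω, (if S.al (M q) ≠ 0 then (1 : ℚ) else 0) * S.al (M q) := h1
  have h3 : ∑ q : Q G Ω, (if S.al (M q) ≠ 0 then (1 : ℚ) else 0) * S.al (M q) = ∑ q : Q G Ω, S.al (M q) := by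
    refine Finset.sum_congr rfl fun q _ => ?_
    split_ifs with h
    · rw [one_mul]
    · rw [zero_mul]
      push Not at h
      exact h.symm
  rw [h2, h3, S.sum_al]

theorem closure (hprim : MulAction.IsPreprimitive G Ω)
    (hT : ∀ s t, S.al (M (ty G s t)) ≠ 0 → mulM S.MP S.MP s t = mulM S.MP S.MP s s)
    (hne : ∃ q : Q G Ω, q ≠ S.q0 ∧ S.al (M q) ≠ 0) : ∀ q : Q G Ω, S.al (M q) ≠ 0 := by
  classical
  have hone : ∀ s t, S.al (M (ty G s t)) ≠ 0 ↔ S.MP s t = 1 := by
    intro s t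
    rw [MP]
    split_ifs with h
    · exact ⟨fun _ => rfl, fun _ => h⟩
    · exact ⟨fun h' => absurd h' h, fun h' => absurd h' (by norm_num)⟩
  have key : ∀ s t z, S.al (M (ty G s t)) ≠ 0 → S.al (M (ty G s z)) ≠ 0 → S.al (M (ty G z t)) ≠ 0 := by
    intro s t z h1 h2
    have h3 := hT s t h1
    rw [mulM, mulM, ← sub_eq_zero, ← neg_eq_zero, neg_sub, ← Finset.sum_sub_distrib] at h3
    have hterm : ∀ y, 0 ≤ S.MP s y * S.MP y s - S.MP s y * S.MP y t := by
      intro y
      rw [S.MP_symm y s]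
      rcases S.MP_zero_one s y with h4 | h4 <;> rcases S.MP_zero_one y t with h5 | h5 <;> rw [h4, h5] <;> norm_num
    have h4 := (Finset.sum_eq_zero_iff_of_nonneg (fun y _ => hterm y)).1 h3 z (Finset.mem_univ z)
    have h5 := (hone s z).1 h2
    rw [S.MP_symm z s, h5] at h4
    rw [hone]
    linarith
  obtain ⟨q, hq0, hq⟩ := hne
  obtain ⟨s0, t0, h0⟩ := ty_surj q
  have hall := all_of_equiv hprim (fun s t => S.al (M (ty G s t)) ≠ 0)
    (fun g s t => by rw [ty_smul])
    (fun s => by rw [S.ty_self, S.al_q0]; norm_num)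
    (fun s t h => by rw [S.al_symm]; exact h)
    (fun s t u h1 h2 => by
      have h1' : S.al (M (ty G t s)) ≠ 0 := by rw [S.al_symm]; exact h1
      exact key t u s h2 h1')
    ⟨s0, t0, fun h => hq0 (by rw [← h0, h, S.ty_self]), by rw [h0]; exact hq⟩
  intro q
  obtain ⟨s, t, h⟩ := ty_surj q
  rw [← h]
  exact hall s t

theorem sum_al_erase [Fintype (Q G Ω)] [DecidableEq (Q G Ω)] : ∑ q ∈ univ.erase S.q0, S.al (M q) = -1 := by
  have h := S.sum_al
  rw [← Finset.add_sum_erase _ _ (Finset.mem_univ S.q0), S.al_q0] at h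
  linarith

theorem exists_ne : ∃ q : Q G Ω, q ≠ S.q0 ∧ S.al (M q) ≠ 0 := by
  classical
  have := Fintype.ofFinite (Q G Ω)
  by_contra hcon
  push Not at hcon
  have h := S.sum_al_erase
  rw [Finset.sum_eq_zero (fun q hq => hcon q (Finset.ne_of_mem_erase hq))] at h
  norm_num at h

section caseA
variable [Fintype G] (hA : ∀ j : ZMod p, j ≠ 0 → S.tau S.F j = 0)
include hA

theorem rel {j : ZMod p} (hj : j ≠ 0) :
    S.F (S.e (true, 0)) (S.e (true, j)) = - S.F (S.e (false, 0)) (S.e (false, j)) := by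
  have := hA j hj
  rw [tau, blk, blk] at this
  linarith

theorem F_zero_iff (s t : Ω) : S.F s t = 0 ↔ S.al (M (ty G s t)) = 0 := by
  have h := S.F_val s t
  have hn := (S.n_pos (ty G s t)).ne'
  constructor
  · intro h1
    rw [h1, mul_zero] at h
    exact h.symm
  · intro h1
    rw [h1] at h
    exact (mul_eq_zero.1 h).resolve_left hn

theorem al_iff {j : ZMod p} (hj : j ≠ 0) : S.al (M (S.qt true j)) ≠ 0 ↔ S.al (M (S.qt false j)) ≠ 0 := by
  rw [qt, qt, Ne, Ne, ← S.F_zero_iff hA, ← S.F_zero_iff hA, S.rel hA hj, neg_eq_zero]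

theorem qt_ne_qt {j : ZMod p} (hj : j ≠ 0) (h : S.al (M (S.qt true j)) ≠ 0) : S.qt true j ≠ S.qt false j := by
  intro h1
  apply h
  obtain ⟨f, hf⟩ := inv_val S.F_inv
  have h2 := S.rel hA hj
  rw [hf, hf] at h2
  change f (S.qt true j) = - f (S.qt false j) at h2
  rw [← h1] at h2
  have h3 : f (S.qt true j) = 0 := by linarith
  rw [qt, ← S.F_zero_iff hA, hf]
  exact h3

theorem tau_sq {q : Q G Ω} (hq : S.al (M q) ≠ 0) {j : ZMod p} (hj : j ≠ 0) :
    S.tau (M q) j * S.tau (M q) j = S.tau (M q) j := by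
  classical
  rw [S.tau_M]
  by_cases h1 : S.qt true j = q
  · have h2 : S.qt false j ≠ q := by
      intro h3
      exact S.qt_ne_qt hA hj (by rw [h1]; exact hq) (h1.trans h3.symm)
    rw [if_pos h1, if_neg h2]; norm_num
  · rw [if_neg h1]
    split_ifs <;> norm_num

theorem n_eq {q : Q G Ω} (hq0 : q ≠ S.q0) (hq : S.al (M q) ≠ 0) :
    S.n (M q) = 2 * (S.al (M q) * S.al (M q)) + S.al (M q) := by
  classical
  have h1 := S.orth_eq hq0
  rw [Finset.sum_congr rfl fun j hj => S.tau_sq hA hq (Finset.ne_of_mem_erase hj), S.sum_tau_erase hq0] at h1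
  linarith

theorem neg_of {q l : Q G Ω} (hq0 : q ≠ S.q0) (hl0 : l ≠ S.q0) (hql : q ≠ l) (hq : S.al (M q) ≠ 0)
    (hl : S.al (M l) ≠ 0) : S.al (M q) * S.al (M l) < 0 := by
  classical
  have h1 := S.orth_ne hq0 hl0 hql
  have h2 : 0 ≤ ∑ j ∈ univ.erase (0 : ZMod p), S.tau (M q) j * S.tau (M l) j := by
    apply Finset.sum_nonneg
    intro j _
    apply mul_nonneg
    · rw [S.tau_M]; split_ifs <;> norm_num
    · rw [S.tau_M]; split_ifs <;> norm_num
  have h3 : S.al (M q) * S.al (M l) ≠ 0 := mul_ne_zero hq hl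
  rcases lt_or_gt_of_ne h3 with h4 | h4
  · exact h4
  · exfalso
    linarith

theorem val_eq {f2 : Q G Ω → ℚ} (hf2 : ∀ s t, mulM S.MP S.MP s t = f2 (ty G s t)) {q l : Q G Ω}
    (hq0 : q ≠ S.q0) (hl0 : l ≠ S.q0) (hq : S.al (M q) ≠ 0) (hl : S.al (M l) ≠ 0) : f2 q = f2 l := by
  classical
  by_cases hql : q = l
  · rw [hql]
  -- the diagonal blocks of MP agree
  have hMPb : S.blk S.MP true true = S.blk S.MP false false := by
    funext j
    by_cases hj : j = 0
    · subst hj
      rw [blk, blk, MP, MP, S.ty_self, S.ty_self]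
    · have h1 := S.al_iff hA hj
      rw [blk, blk, MP, MP]
      change (if S.al (M (S.qt true j)) ≠ 0 then (1 : ℚ) else 0) = if S.al (M (S.qt false j)) ≠ 0 then 1 else 0
      by_cases h2 : S.al (M (S.qt true j)) ≠ 0
      · rw [if_pos h2, if_pos (h1.1 h2)]
      · rw [if_neg h2, if_neg (fun h3 => h2 (h1.2 h3))]
  have hT : ∀ j, f2 (S.qt true j) = f2 (S.qt false j) := by
    intro j
    have h1 : S.blk (mulM S.MP S.MP) true true = S.blk (mulM S.MP S.MP) false false := by
      rw [S.blk_mul S.MP_inv, S.blk_mul S.MP_inv, Fintype.sum_bool, Fintype.sum_bool, hMPb,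
        conv_comm (S.blk S.MP true false), add_comm]
    have h2 := congrFun h1 j
    rw [blk, blk, hf2, hf2] at h2
    exact h2
  have h1 := S.orth_ne hq0 hl0 hql
  have h2 : ∑ j ∈ univ.erase (0 : ZMod p), S.tau (M q) j * S.tau (M l) j ≠ 0 := by
    rw [h1]
    exact mul_ne_zero (by norm_num) (mul_ne_zero hq hl)
  obtain ⟨j, hj, hjne⟩ := Finset.exists_ne_zero_of_sum_ne_zero h2
  have hq' : S.qt true j = q ∨ S.qt false j = q := by
    by_contra hcon
    rw [not_or] at hcon
    apply hjne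
    rw [S.tau_M q, if_neg hcon.1, if_neg hcon.2]; norm_num
  have hl' : S.qt true j = l ∨ S.qt false j = l := by
    by_contra hcon
    rw [not_or] at hcon
    apply hjne
    rw [S.tau_M l, if_neg hcon.1, if_neg hcon.2]; norm_num
  rcases hq' with h3 | h3 <;> rcases hl' with h4 | h4
  · exact absurd (h3.symm.trans h4) hql
  · rw [← h3, ← h4, hT]
  · rw [← h3, ← h4, hT]
  · exact absurd (h3.symm.trans h4) hql

theorem all_ne (hprim : MulAction.IsPreprimitive G Ω) : ∀ q : Q G Ω, S.al (M q) ≠ 0 := by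
  classical
  have := Fintype.ofFinite (Q G Ω)
  obtain ⟨f2, hf2⟩ := inv_val (mulM_inv S.MP_inv S.MP_inv)
  obtain ⟨q, hq0, hq⟩ := S.exists_ne
  have h1 : ∑ l, f2 l * S.al (M l) = 0 := by
    rw [← S.al_expand]
    have : (fun s t => f2 (ty G s t)) = mulM S.MP S.MP := by
      funext s t
      rw [hf2]
    rw [this, S.al_mul S.MP_inv S.MP_inv, S.al_MP, zero_mul]
  have h2 : ∀ l ∈ univ.erase S.q0, f2 l * S.al (M l) = f2 q * S.al (M l) := by
    intro l hl
    by_cases h : S.al (M l) = 0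
    · rw [h, mul_zero, mul_zero]
    · rw [S.val_eq hA hf2 (Finset.ne_of_mem_erase hl) hq0 h hq]
  rw [← Finset.add_sum_erase _ _ (Finset.mem_univ S.q0), Finset.sum_congr rfl h2, ← Finset.mul_sum,
    S.sum_al_erase, S.al_q0] at h1
  have h3 : f2 S.q0 = f2 q := by linarith
  apply S.closure hprim _ ⟨q, hq0, hq⟩
  intro s t hst
  rw [hf2, hf2, S.ty_self]
  by_cases h : ty G s t = S.q0
  · rw [h]
  · rw [S.val_eq hA hf2 h hq0 hst hq, h3]

end caseA

theorem main (hprim : MulAction.IsPreprimitive G Ω) :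
    (∀ q l : Q G Ω, q ≠ S.q0 → l ≠ S.q0 → q = l) ∨
    ∃ (a : ℕ) (q1 q2 : Q G Ω), 0 < a ∧ q1 ≠ S.q0 ∧ q2 ≠ S.q0 ∧ q1 ≠ q2 ∧ (∀ q : Q G Ω, q = S.q0 ∨ q = q1 ∨ q = q2) ∧
      S.n (M q1) = ((a * (2 * a + 1) : ℕ) : ℚ) ∧ S.n (M q2) = (((a + 1) * (2 * a + 1) : ℕ) : ℚ) ∧
      p = 2 * a ^ 2 + 2 * a + 1 := by
  classical
  have hp : p.Prime := Fact.out
  have := Fintype.ofFinite (Q G Ω)
  have := Fintype.ofFinite G
  rcases S.dich with hA | hB
  · have hall := S.all_ne hA hprim
    have hneg : ∀ q l : Q G Ω, q ≠ S.q0 → l ≠ S.q0 → q ≠ l → S.al (M q) * S.al (M l) < 0 :=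
      fun q l h1 h2 h3 => S.neg_of hA h1 h2 h3 (hall q) (hall l)
    by_cases h1 : ∀ q l : Q G Ω, q ≠ S.q0 → l ≠ S.q0 → q = l
    · left; exact h1
    right
    push Not at h1
    obtain ⟨q, l, hq0, hl0, hql⟩ := h1
    -- choose q1 with positive al
    obtain ⟨q1, q2, h10, h20, h12, hpos⟩ : ∃ q1 q2 : Q G Ω, q1 ≠ S.q0 ∧ q2 ≠ S.q0 ∧ q1 ≠ q2 ∧ 0 < S.al (M q1) := by
      have h2 := hneg q l hq0 hl0 hql
      rcases lt_or_gt_of_ne (hall q) with h3 | h3
      · refine ⟨l, q, hl0, hq0, Ne.symm hql, ?_⟩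
        by_contra h4
        push Not at h4
        nlinarith
      · exact ⟨q, l, hq0, hl0, hql, h3⟩
    have hneg2 : S.al (M q2) < 0 := by
      have h2 := hneg q1 q2 h10 h20 h12
      by_contra h4
      push Not at h4
      nlinarith
    have hcover : ∀ q : Q G Ω, q = S.q0 ∨ q = q1 ∨ q = q2 := by
      intro q
      by_contra hcon
      rw [not_or, not_or] at hcon
      have h2 := hneg q q1 hcon.1 h10 hcon.2.1
      have h3 := hneg q q2 hcon.1 h20 hcon.2.2
      have h4 : S.al (M q) < 0 := by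
        by_contra h5
        push Not at h5
        nlinarith
      nlinarith
    have huniv : (univ : Finset (Q G Ω)) = {S.q0, q1, q2} := by
      ext q
      simp only [Finset.mem_univ, Finset.mem_insert, Finset.mem_singleton, true_iff]
      exact hcover q
    have hsum : S.al (M q1) + S.al (M q2) = -1 := by
      have h2 := S.sum_al
      rw [huniv, Finset.sum_insert, Finset.sum_insert, Finset.sum_singleton, S.al_q0] at h2
      · linarith
      · rw [Finset.mem_singleton]; exact h12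
      · rw [Finset.mem_insert, Finset.mem_singleton, not_or]
        exact ⟨Ne.symm h10, Ne.symm h20⟩
    have hsumn : 1 + S.n (M q1) + S.n (M q2) = 2 * p := by
      have h2 := S.sum_n
      rw [huniv, Finset.sum_insert, Finset.sum_insert, Finset.sum_singleton, S.n_q0] at h2
      · linarith
      · rw [Finset.mem_singleton]; exact h12
      · rw [Finset.mem_insert, Finset.mem_singleton, not_or]
        exact ⟨Ne.symm h10, Ne.symm h20⟩
    obtain ⟨k, hk⟩ := S.al_M_int q1
    have hkpos : 0 < k := by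
      rw [hk] at hpos
      exact_mod_cast hpos
    obtain ⟨a, rfl⟩ := Int.eq_ofNat_of_zero_le hkpos.le
    have hk' : S.al (M q1) = (a : ℚ) := by rw [hk]; simp
    have hk2 : S.al (M q2) = -1 - (a : ℚ) := by linarith
    have hn1 := S.n_eq hA h10 (hall q1)
    have hn2 := S.n_eq hA h20 (hall q2)
    rw [hk'] at hn1
    rw [hk2] at hn2
    refine ⟨a, q1, q2, by exact_mod_cast hkpos, h10, h20, h12, hcover, ?_, ?_, ?_⟩
    · rw [hn1]; push_cast; ring
    · rw [hn2]; push_cast; ring
    · rw [hn1, hn2] at hsumn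
      have h2 : (p : ℚ) = 2 * (a : ℚ) ^ 2 + 2 * (a : ℚ) + 1 := by linarith
      exact_mod_cast h2
  · left
    obtain ⟨q, hq0, hq⟩ := S.exists_ne
    obtain ⟨k, hk⟩ := S.al_M_int q
    have h10 : (1 : ZMod p) ≠ 0 := by
      have : Fact (1 < p) := ⟨hp.one_lt⟩
      exact one_ne_zero
    have hk1 : k = -1 := by
      have h1 := hB q hq0 1 h10
      rw [S.tau_M, hk] at h1
      rw [hk] at hq
      have hk0 : k ≠ 0 := by
        rintro rfl
        simp at hq
      have h2 : ∃ m : ℤ, (0 ≤ m ∧ m ≤ 2) ∧ ((m : ℚ) = -2 * (k : ℚ)) := by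
        rw [← h1]
        split_ifs
        · exact ⟨2, by norm_num, by norm_num⟩
        · exact ⟨1, by norm_num, by norm_num⟩
        · exact ⟨1, by norm_num, by norm_num⟩
        · exact ⟨0, by norm_num, by norm_num⟩
      obtain ⟨m, hm, hm2⟩ := h2
      have h3 : m = -2 * k := by exact_mod_cast hm2
      omega
    have hal : S.al (M q) = -1 := by rw [hk, hk1]; simp
    have hn : S.n (M q) = 2 * p - 1 := by
      have h1 := S.sum_tau_erase hq0
      rw [Finset.sum_congr rfl fun j hj => hB q hq0 j (Finset.ne_of_mem_erase hj), hal, Finset.sum_const,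
        Finset.card_erase_of_mem (Finset.mem_univ _), Finset.card_univ, ZMod.card, nsmul_eq_mul,
        Nat.cast_sub hp.one_lt.le] at h1
      push_cast at h1
      linarith
    have honly : ∀ l : Q G Ω, l ≠ S.q0 → l = q := by
      intro l hl
      by_contra hlq
      have h1 := S.sum_n
      have h2 : S.n (M S.q0) + S.n (M q) + S.n (M l) ≤ ∑ q : Q G Ω, S.n (M q) := by
        have h3 : ∑ x ∈ ({S.q0, q, l} : Finset (Q G Ω)), S.n (M x) ≤ ∑ q : Q G Ω, S.n (M q) :=
          Finset.sum_le_sum_of_subset_of_nonneg (Finset.subset_univ _) (fun i _ _ => (S.n_pos i).le)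
        rw [Finset.sum_insert, Finset.sum_insert, Finset.sum_singleton] at h3
        · linarith
        · rw [Finset.mem_singleton]; exact Ne.symm hlq
        · rw [Finset.mem_insert, Finset.mem_singleton, not_or]
          exact ⟨Ne.symm hq0, Ne.symm hl⟩
      have h4 := S.n_pos l
      rw [h1, S.n_q0, hn] at h2
      linarith
    intro q' l hq' hl
    rw [honly q' hq', honly l hl]

end Setup

end H15.TwoP
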