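import Cfsg.Agent.Lib.H15.TwoP5

set_option autoImplicit false
set_option linter.unusedSectionVars false

/-! Primitive groups of degree `2p`, part six: the set-up. -/

namespace H15.TwoP

open MulAction

theorem two_of_cycle {α : Type*} [Fintype α] [DecidableEq α] {p : ℕ} (hp : p.Prime) (hα : Fintype.card α = 2 * p)
    (G : Subgroup (Equiv.Perm α)) (hG : IsPreprimitive G α) (x : Equiv.Perm α) (hx : x ∈ G) (ho : orderOf x = p)
    (a : α) (ha : x a = a) : IsMultiplyPretransitive G α 2 := by
  have hcyc : x.IsCycle := by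
    apply Equiv.Perm.isCycle_of_prime_order
    · rw [ho]; exact hp
    · rw [ho, ← hα]
      apply Finset.card_lt_univ_of_notMem (x := a)
      simp [ha]
  have hsupp : x.support.card = p := by rw [← ho]; exact hcyc.orderOf.symm
  let s : Set α := {b | x b = b}
  have hs : s.ncard = (p - 1) + 1 := by
    have h1 : s = ((x.supportᶜ : Finset α) : Set α) := by
      ext b
      simp [s]
    rw [h1, Set.ncard_coe_finset, Finset.card_compl, hsupp, hα]
    have := hp.one_lt
    omega
  refine hG.is_two_pretransitive hs (by rw [Nat.card_eq_fintype_card, hα]; have := hp.one_lt; omega) ?_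
  have hxs : (⟨x, hx⟩ : G) ∈ fixingSubgroup G s := by
    rw [mem_fixingSubgroup_iff]
    intro b hb
    exact hb
  refine ⟨fun u v => ?_⟩
  have hu : x u.1 ≠ u.1 := fun h => u.2 h
  have hv : x v.1 ≠ v.1 := fun h => v.2 h
  obtain ⟨i, hi⟩ := hcyc.sameCycle hu hv
  refine ⟨⟨⟨x, hx⟩ ^ i, Subgroup.zpow_mem _ hxs i⟩, ?_⟩
  apply Subtype.ext
  change ((⟨x, hx⟩ : G) ^ i : G) • (u : α) = v
  rw [Subgroup.smul_def, Subgroup.coe_zpow]
  exact hi

variable {p : ℕ} [Fact p.Prime]

theorem pow_val {G : Type*} [Group G] {x : G} (ho : orderOf x = p) (n : ℕ) : x ^ ((n : ZMod p)).val = x ^ n := by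
  rw [ZMod.val_natCast, ← ho, pow_mod_orderOf]

theorem exists_setup {α : Type*} [Fintype α] [DecidableEq α] (hα : Fintype.card α = 2 * p)
    (G : Type*) [Group G] [Finite G] [MulAction G α] (hG : IsPreprimitive G α) (x : G) (ho : orderOf x = p)
    (hx : ∀ a : α, x • a ≠ a) : Nonempty (Setup p G α) := by
  classical
  have hp : p.Prime := Fact.out
  have hadd : ∀ i j : ZMod p, x ^ (i + j).val = x ^ i.val * x ^ j.val := by
    intro i j
    rw [← pow_add, ← pow_val ho (i.val + j.val)]
    congr 2
    push_cast
    rw [ZMod.natCast_zmod_val, ZMod.natCast_zmod_val]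
  have hone : x ^ (1 : ZMod p).val = x := by
    have := pow_val ho 1
    rw [Nat.cast_one, pow_one] at this
    exact this
  have hzero : x ^ (0 : ZMod p).val = 1 := by rw [ZMod.val_zero, pow_zero]
  have hfree : ∀ j : ZMod p, j ≠ 0 → ∀ a : α, x ^ j.val • a ≠ a := by
    intro j hj a ha
    apply hx a
    have h1 : ∀ k : ℕ, (x ^ j.val) ^ k • a = a := by
      intro k
      induction k with
      | zero => simp
      | succ k ih => rw [pow_succ, mul_smul, ha, ih]
    have h2 := h1 (j⁻¹).val
    rw [← pow_mul, ← pow_val ho] at h2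
    push_cast at h2
    rw [ZMod.natCast_zmod_val, ZMod.natCast_zmod_val, mul_inv_cancel₀ hj, hone] at h2
    exact h2
  have hinj : ∀ (a : α) (i j : ZMod p), x ^ i.val • a = x ^ j.val • a → i = j := by
    intro a i j h
    by_contra hij
    apply hfree (i - j) (sub_ne_zero.2 hij) (x ^ j.val • a)
    rw [← mul_smul, ← hadd, sub_add_cancel]
    exact h
  have : Nonempty α := by
    rw [← Fintype.card_pos_iff, hα]
    have := hp.pos
    omega
  obtain ⟨a⟩ := this
  obtain ⟨b, hb⟩ : ∃ b : α, ∀ j : ZMod p, x ^ j.val • a ≠ b := by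
    by_contra hcon
    push Not at hcon
    have h1 := Fintype.card_le_of_surjective (fun j : ZMod p => x ^ j.val • a) hcon
    rw [hα, ZMod.card] at h1
    have := hp.pos
    omega
  let f : Bool × ZMod p → α := fun q => x ^ q.2.val • (if q.1 then a else b)
  have hf : Function.Bijective f := by
    rw [Fintype.bijective_iff_injective_and_card]
    refine ⟨?_, by simp [hα, ZMod.card]⟩
    rintro ⟨c, i⟩ ⟨d, j⟩ h
    have hkey : ∀ i j : ZMod p, x ^ i.val • a ≠ x ^ j.val • b := by
      intro i j h2
      apply hb (-j + i)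
      rw [hadd, mul_smul, h2, ← mul_smul, ← hadd, neg_add_cancel, hzero, one_smul]
    cases c <;> cases d
    · have := hinj b i j h
      rw [this]
    · exact absurd (Eq.symm h) (hkey j i)
    · exact absurd h (hkey i j)
    · have := hinj a i j h
      rw [this]
  let e : Bool × ZMod p ≃ α := Equiv.ofBijective f hf
  have he : ∀ c j, e (c, j) = x ^ j.val • (if c then a else b) := fun _ _ => rfl
  have hex : ∀ c j, x • e (c, j) = e (c, j + 1) := by
    intro c j
    rw [he, he, add_comm, hadd, hone, mul_smul]
  have hg0 : ∃ g0 : G, (∃ s, (e.symm (g0 • s)).1 ≠ (e.symm s).1) ∧ (∃ s, (e.symm (g0 • s)).1 ≠ !(e.symm s).1) := by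
    by_contra hcon
    push Not at hcon
    have h1 : ∀ g : G, (∀ s, (e.symm (g • s)).1 = (e.symm s).1) ∨ (∀ s, (e.symm (g • s)).1 = !(e.symm s).1) := by
      intro g
      by_cases h : ∃ s, (e.symm (g • s)).1 ≠ (e.symm s).1
      · right
        exact hcon g h
      · left
        push Not at h
        exact h
    have h2 := all_of_equiv hG (fun s t => (e.symm s).1 = (e.symm t).1)
      (fun g s t => by
        rcases h1 g with h | h
        · rw [h, h]
        · rw [h, h, Bool.not_inj_iff])
      (fun s => rfl) (fun s t h => h.symm) (fun s t u h h' => h.trans h')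
      ⟨e (true, 0), e (true, 1), fun h => by
        have := e.injective h
        rw [Prod.mk.injEq] at this
        exact zero_ne_one this.2, by rw [e.symm_apply_apply, e.symm_apply_apply]⟩ (e (true, 0)) (e (false, 0))
    rw [e.symm_apply_apply, e.symm_apply_apply] at h2
    simp at h2
  obtain ⟨g0, hg0⟩ := hg0
  exact ⟨⟨e, x, hex, fun s t => exists_smul_eq G s t, g0, hg0⟩⟩

/-- the orbits of a point stabiliser are the types -/
theorem ty_iff_orbit {G α : Type*} [Group G] [Fintype α] [DecidableEq α] [MulAction G α] (a b c : α) :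
    ty G a b = ty G a c ↔ b ∈ orbit (stabilizer G a) c := by
  constructor
  · intro h
    obtain ⟨g, h1, h2⟩ := ty_eq h
    exact ⟨⟨g, h1⟩, h2⟩
  · rintro ⟨g, hg⟩
    have h1 : (g : G) • a = a := g.2
    have h2 : (g : G) • c = b := hg
    rw [← ty_smul (g : G) a c, h1, h2]

theorem card_orbit {G α : Type*} [Group G] [Fintype α] [DecidableEq α] [MulAction G α] (S : Setup p G α) (a b : α) :
    (Nat.card (orbit (stabilizer G a) b) : ℚ) = S.n (M (ty G a b)) := by
  classical
  rw [← S.row_sum (M_inv _) a]
  have h1 : orbit (stabilizer G a) b = ((Finset.univ.filter (fun t => ty G a t = ty G a b) : Finset α) : Set α) := by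
    ext t
    simp only [Finset.coe_filter, Finset.mem_univ, true_and, Set.mem_ofPred_eq]
    exact (ty_iff_orbit a t b).symm
  rw [h1, Nat.card_coe_set_eq, Set.ncard_coe_finset]
  simp [M]

theorem card_quot {G α : Type*} [Group G] [Fintype α] [DecidableEq α] [MulAction G α] (S : Setup p G α) (a : α) :
    Nat.card (orbitRel.Quotient (stabilizer G a) α) = Nat.card (Q G α) := by
  let f : orbitRel.Quotient (stabilizer G a) α → Q G α :=
    Quotient.lift (fun b => ty G a b) (fun b c h => (ty_iff_orbit a b c).2 h)
  have hf : Function.Bijective f := by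
    constructor
    · intro u v
      induction u using Quotient.inductionOn with
      | h b =>
      induction v using Quotient.inductionOn with
      | h c =>
      intro h
      exact Quotient.sound ((ty_iff_orbit a b c).1 h)
    · intro q
      obtain ⟨s, t, h⟩ := ty_surj q
      obtain ⟨g, hg⟩ := S.trans s a
      refine ⟨Quotient.mk _ (g • t), ?_⟩
      change ty G a (g • t) = q
      rw [← h, ← hg, ty_smul]
  exact Nat.card_congr (Equiv.ofBijective f hf)

end H15.TwoP
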